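/-
Helper30: subgroups of `A_8` with trivial solvable radical (towards S2553).
Part 1: groups with no nontrivial solvable normal subgroup; solvability of groups of small order.
-/
import Mathlib
import Cfsg.Agent.Lib.Cores
import Cfsg.Agent.Helper91.PSolvNorm
import Cfsg.Agent.Helper70.PSolvable
import Cfsg.Agent.S0493

set_option autoImplicit false

namespace Cfsg.Agent.Helper30.A8Sub

universe u

/-- no nontrivial solvable normal subgroup -/
def RadTriv (H : Type*) [Group H] : Prop :=
  ∀ N : Subgroup H, N.Normal → Group.IsSolvable N → N = ⊥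

theorem radTriv_of_cores {H : Type*} [Group H] [Finite H] (h2 : Cfsg.pCore 2 H = ⊥)
    (h2' : Cfsg.pPrimeCore 2 H = ⊥) : RadTriv H := by
  intro N hN hsol
  by_contra hne
  have : Fact (Nat.Prime 2) := ⟨Nat.prime_two⟩
  have : Nontrivial ↥N := (Subgroup.nontrivial_iff_ne_bot N).2 hne
  have hps : Cfsg.IsPSolvable 2 ↥N := Helper70.isPSolvable_of_isSolvable 2
  rcases Helper91.pCore_ne_bot_or_pPrimeCore_ne_bot hps with h | h
  · have := Lib.pCore_characteristic (G := ↥N) 2
    have hnorm : ((Cfsg.pCore 2 ↥N).map N.subtype).Normal :=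
      ConjAct.normal_of_characteristic_of_normal
    have hp : IsPGroup 2 ((Cfsg.pCore 2 ↥N).map N.subtype) := (Lib.isPGroup_pCore 2).map _
    have hle := Lib.le_pCore hnorm hp
    rw [h2, le_bot_iff, Subgroup.map_eq_bot_iff_of_injective _ N.subtype_injective] at hle
    exact h hle
  · have := Lib.pPrimeCore_characteristic (G := ↥N) 2
    have hnorm : ((Cfsg.pPrimeCore 2 ↥N).map N.subtype).Normal :=
      ConjAct.normal_of_characteristic_of_normal
    have hp : (Nat.card ((Cfsg.pPrimeCore 2 ↥N).map N.subtype)).Coprime 2 := by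
      rw [Subgroup.card_subtype]
      exact Lib.card_pPrimeCore_coprime 2
    have hle := Lib.le_pPrimeCore hnorm hp
    rw [h2', le_bot_iff, Subgroup.map_eq_bot_iff_of_injective _ N.subtype_injective] at hle
    exact h hle

theorem RadTriv.of_equiv {H K : Type*} [Group H] [Group K] (e : H ≃* K) (h : RadTriv H) :
    RadTriv K := by
  intro N hN hsol
  have h1 : (N.map e.symm.toMonoidHom).Normal := hN.map _ e.symm.surjective
  have h2 : Group.IsSolvable ↥(N.map e.symm.toMonoidHom) :=
    Group.isSolvable_of_surjective (f := (e.symm.subgroupMap N).toMonoidHom) (e.symm.subgroupMap N).surjective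
  have h3 := h _ h1 h2
  rwa [Subgroup.map_eq_bot_iff_of_injective _ e.symm.injective] at h3

theorem RadTriv.not_isSolvable {H : Type*} [Group H] [Nontrivial H] (h : RadTriv H) :
    ¬ Group.IsSolvable H := by
  intro hs
  have h1 := h ⊤ inferInstance inferInstance
  exact top_ne_bot h1

theorem isSolvable_of_card_le_hundred : ∀ (n : ℕ) (G : Type u) [Group G] [Finite G],
    Nat.card G = n → n ≤ 100 → ¬ 60 ∣ n → Group.IsSolvable G := by
  intro n
  induction n using Nat.strong_induction_on with
  | _ n ih =>
    intro G _ _ hn h100 h60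
    by_cases hsub : Subsingleton G
    · exact Group.isSolvable_of_comm (fun a b => Subsingleton.elim _ _)
    · have : Nontrivial G := not_subsingleton_iff_nontrivial.1 hsub
      by_cases hsimple : IsSimpleGroup G
      · by_cases hcyc : IsCyclic G
        · exact Group.isSolvable_of_comm (fun a b => Std.Commutative.comm a b)
        · exfalso
          have := Cfsg.Agent.S0493.result (G := G) hcyc (by omega)
          rw [hn] at this
          exact h60 (by rw [this])
      · have hex : ∃ N : Subgroup G, N.Normal ∧ N ≠ ⊥ ∧ N ≠ ⊤ := by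
          by_contra hcon
          apply hsimple
          refine ⟨fun N hN => ?_⟩
          by_contra h2
          rw [not_or] at h2
          exact hcon ⟨N, hN, h2.1, h2.2⟩
        obtain ⟨N, hN, hbot, htop⟩ := hex
        have := hN
        have hdvd : Nat.card ↥N ∣ n := hn ▸ Subgroup.card_subgroup_dvd_card N
        have hmul : Nat.card ↥N * N.index = n := hn ▸ Subgroup.card_mul_index N
        have hNpos : 0 < n := hn ▸ Nat.card_pos
        have hN1 : 1 < Nat.card ↥N := (Subgroup.one_lt_card_iff_ne_bot N).2 hbot
        have hNn : Nat.card ↥N ≠ n := fun h => htop (Subgroup.eq_top_of_card_eq N (h.trans hn.symm))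
        have hNlt : Nat.card ↥N < n := lt_of_le_of_ne (Nat.le_of_dvd hNpos hdvd) hNn
        have hidx : N.index < n := by
          have hipos : 0 < N.index := Nat.pos_of_ne_zero (Subgroup.index_ne_zero_of_finite)
          nlinarith
        have hidvd : N.index ∣ n := ⟨Nat.card ↥N, by rw [← hmul, mul_comm]⟩
        have s1 : Group.IsSolvable ↥N := ih _ hNlt ↥N rfl (by omega)
          (fun h => h60 (dvd_trans h hdvd))
        have s2 : Group.IsSolvable (G ⧸ N) := ih _ hidx (G ⧸ N) (Subgroup.index_eq_card N).symm
          (by omega) (fun h => h60 (dvd_trans h hidvd))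
        refine Group.isSolvable_of_ker_le_range N.subtype (QuotientGroup.mk' N) ?_
        rw [QuotientGroup.ker_mk', Subgroup.range_subtype]

theorem isSolvable_of_card_lt_sixty {G : Type u} [Group G] [Finite G] (h : Nat.card G < 60) :
    Group.IsSolvable G :=
  isSolvable_of_card_le_hundred _ G rfl (by omega)
    (fun h60 => by have := Nat.le_of_dvd Nat.card_pos h60; omega)

theorem isSimpleGroup_of_not_isSolvable {G : Type u} [Group G] [Finite G] (hns : ¬ Group.IsSolvable G)
    (hsmall : ∀ (K : Type u) [Group K] [Finite K], Nat.card K ∣ Nat.card G →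
      Nat.card K < Nat.card G → Group.IsSolvable K) : IsSimpleGroup G := by
  have : Nontrivial G := by
    by_contra h
    rw [not_nontrivial_iff_subsingleton] at h
    exact hns (Group.isSolvable_of_comm (fun a b => Subsingleton.elim _ _))
  refine ⟨fun N hN => ?_⟩
  by_contra h2
  rw [not_or] at h2
  obtain ⟨hbot, htop⟩ := h2
  have := hN
  have hmul : Nat.card ↥N * N.index = Nat.card G := Subgroup.card_mul_index N
  have hN1 : 1 < Nat.card ↥N := (Subgroup.one_lt_card_iff_ne_bot N).2 hbot
  have hNn : Nat.card ↥N ≠ Nat.card G := fun h => htop (Subgroup.eq_top_of_card_eq N h)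
  have hNlt : Nat.card ↥N < Nat.card G :=
    lt_of_le_of_ne (Nat.le_of_dvd Nat.card_pos (Subgroup.card_subgroup_dvd_card N)) hNn
  have hidx : N.index < Nat.card G := by
    have hipos : 0 < N.index := Nat.pos_of_ne_zero (Subgroup.index_ne_zero_of_finite)
    nlinarith
  have hidvd : N.index ∣ Nat.card G := ⟨Nat.card ↥N, by rw [← hmul, mul_comm]⟩
  have s1 : Group.IsSolvable ↥N := hsmall ↥N (Subgroup.card_subgroup_dvd_card N) hNlt
  have s2 : Group.IsSolvable (G ⧸ N) := hsmall (G ⧸ N) (by rw [← Subgroup.index_eq_card]; exact hidvd)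
    (by rw [← Subgroup.index_eq_card]; exact hidx)
  apply hns
  refine Group.isSolvable_of_ker_le_range N.subtype (QuotientGroup.mk' N) ?_
  rw [QuotientGroup.ker_mk', Subgroup.range_subtype]

theorem isSimpleGroup_of_card_sixty {G : Type u} [Group G] [Finite G] (h : Nat.card G = 60)
    (hns : ¬ Group.IsSolvable G) : IsSimpleGroup G := by
  apply isSimpleGroup_of_not_isSolvable hns
  intro K _ _ hd hlt
  rw [h] at hd hlt
  exact isSolvable_of_card_lt_sixty hlt

theorem isSimpleGroup_of_card_168 {G : Type u} [Group G] [Finite G] (h : Nat.card G = 168)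
    (hns : ¬ Group.IsSolvable G) : IsSimpleGroup G := by
  apply isSimpleGroup_of_not_isSolvable hns
  intro K _ _ hd hlt
  rw [h] at hd hlt
  have h84 : Nat.card K ≤ 84 := by
    obtain ⟨c, hc⟩ := hd
    have hc2 : 2 ≤ c := by
      by_contra hcon
      have : c = 0 ∨ c = 1 := by omega
      rcases this with rfl | rfl <;> omega
    nlinarith
  exact isSolvable_of_card_le_hundred _ K rfl (by omega)
    (fun h60 => by have := dvd_trans h60 hd; omega)

end Cfsg.Agent.Helper30.A8Sub
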