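/-
Helper30: subgroups of `A_8` with trivial solvable radical (towards S2553).
Part 2: orbits, stabilisers and restriction of a permutation group to an invariant set.
-/
import Cfsg.Agent.Helper30.A8Sub.Rad
import Cfsg.Agent.Helper59.AltOver

set_option autoImplicit false
set_option linter.unusedSectionVars false

namespace Cfsg.Agent.Helper30.A8Sub

open Equiv Equiv.Perm

variable {Ω : Type*} [Fintype Ω] [DecidableEq Ω]

/-- the orbit of a point, as a finset -/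
noncomputable def orb (H : Subgroup (Perm Ω)) (a : Ω) : Finset Ω :=
  open Classical in Finset.univ.filter (fun x => ∃ h ∈ H, h a = x)

theorem mem_orb {H : Subgroup (Perm Ω)} {a x : Ω} : x ∈ orb H a ↔ ∃ h ∈ H, h a = x := by
  classical
  simp [orb]

theorem self_mem_orb (H : Subgroup (Perm Ω)) (a : Ω) : a ∈ orb H a :=
  mem_orb.2 ⟨1, H.one_mem, rfl⟩

/-- the stabiliser of a point, as a subgroup of the symmetric group -/
def stab (H : Subgroup (Perm Ω)) (a : Ω) : Subgroup (Perm Ω) :=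
  H ⊓ MulAction.stabilizer (Perm Ω) a

theorem mem_stab {H : Subgroup (Perm Ω)} {a : Ω} {g : Perm Ω} :
    g ∈ stab H a ↔ g ∈ H ∧ g a = a := by
  simp [stab, MulAction.mem_stabilizer_iff]

theorem stab_le (H : Subgroup (Perm Ω)) (a : Ω) : stab H a ≤ H := inf_le_left

theorem card_orb_mul_card_stab (H : Subgroup (Perm Ω)) (a : Ω) :
    (orb H a).card * Nat.card ↥(stab H a) = Nat.card ↥H := by
  have h1 : (MulAction.stabilizer ↥H a).index = (orb H a).card := by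
    rw [MulAction.index_stabilizer, ← Set.ncard_coe_finset]
    congr 1
    ext x
    rw [Finset.mem_coe, mem_orb, MulAction.mem_orbit_iff]
    constructor
    · rintro ⟨h, rfl⟩
      exact ⟨h.1, h.2, rfl⟩
    · rintro ⟨h, hh, rfl⟩
      exact ⟨⟨h, hh⟩, rfl⟩
  have h2 : Nat.card ↥(MulAction.stabilizer ↥H a) = Nat.card ↥(stab H a) := by
    refine Nat.card_congr ⟨fun g => ⟨g.1.1, mem_stab.2 ⟨g.1.2, g.2⟩⟩,
      fun g => ⟨⟨g.1, (mem_stab.1 g.2).1⟩, (mem_stab.1 g.2).2⟩, fun g => rfl, fun g => rfl⟩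
  rw [← h1, ← h2, mul_comm]
  exact Subgroup.card_mul_index _

/-- invariance of a finset under a permutation group -/
def Inv (H : Subgroup (Perm Ω)) (Δ : Finset Ω) : Prop := ∀ h ∈ H, ∀ x ∈ Δ, h x ∈ Δ

theorem inv_orb (H : Subgroup (Perm Ω)) (a : Ω) : Inv H (orb H a) := by
  intro h hh x hx
  obtain ⟨k, hk, rfl⟩ := mem_orb.1 hx
  exact mem_orb.2 ⟨h * k, H.mul_mem hh hk, rfl⟩

theorem Inv.iff {H : Subgroup (Perm Ω)} {Δ : Finset Ω} (hΔ : Inv H Δ) {h : Perm Ω} (hh : h ∈ H)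
    (x : Ω) : h x ∈ Δ ↔ x ∈ Δ := by
  constructor
  · intro hx
    have := hΔ h⁻¹ (H.inv_mem hh) _ hx
    simpa using this
  · exact hΔ h hh x

theorem Inv.compl {H : Subgroup (Perm Ω)} {Δ : Finset Ω} (hΔ : Inv H Δ) : Inv H Δᶜ := by
  intro h hh x hx
  rw [Finset.mem_compl] at hx ⊢
  rwa [hΔ.iff hh]

theorem Inv.mono {H L : Subgroup (Perm Ω)} {Δ : Finset Ω} (hΔ : Inv H Δ) (hL : L ≤ H) : Inv L Δ :=
  fun h hh x hx => hΔ h (hL hh) x hx

/-- restriction to an invariant set -/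
def restr (H : Subgroup (Perm Ω)) (Δ : Finset Ω) (hΔ : Inv H Δ) : ↥H →* Perm {x // x ∈ Δ} where
  toFun h := subtypePerm h.1 (fun x => hΔ.iff h.2 x)
  map_one' := by
    ext x
    rfl
  map_mul' a b := by
    ext x
    rfl

@[simp]
theorem restr_apply (H : Subgroup (Perm Ω)) (Δ : Finset Ω) (hΔ : Inv H Δ) (h : ↥H)
    (x : {x // x ∈ Δ}) : ((restr H Δ hΔ h x : {x // x ∈ Δ}) : Ω) = h.1 x := rfl

theorem mem_ker_restr {H : Subgroup (Perm Ω)} {Δ : Finset Ω} {hΔ : Inv H Δ} {h : ↥H} :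
    h ∈ (restr H Δ hΔ).ker ↔ ∀ x ∈ Δ, h.1 x = x := by
  rw [MonoidHom.mem_ker]
  constructor
  · intro h1 x hx
    have := congrArg (fun f : Perm {x // x ∈ Δ} => ((f ⟨x, hx⟩ : {x // x ∈ Δ}) : Ω)) h1
    simpa using this
  · intro h1
    ext x
    simpa using h1 x.1 x.2

/-- the kernel of the restriction to an invariant set with small complement is solvable -/
theorem isSolvable_ker_restr {H : Subgroup (Perm Ω)} {Δ : Finset Ω} (hΔ : Inv H Δ)
    (hc : Δᶜ.card ≤ 4) : Group.IsSolvable ↥(restr H Δ hΔ).ker := by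
  have : Group.IsSolvable (Perm {x // x ∈ Δᶜ}) :=
    Cfsg.Agent.Helper59.ThreeCyc.isSolvable_perm_of_card_le_four (by
      rw [Fintype.card_coe]
      exact hc)
  let ψ : ↥(restr H Δ hΔ).ker →* Perm {x // x ∈ Δᶜ} :=
    (restr H Δᶜ hΔ.compl).comp (restr H Δ hΔ).ker.subtype
  have hinj : Function.Injective ψ := by
    rw [injective_iff_map_eq_one]
    intro k hk
    have h1 : ∀ x ∈ Δ, k.1.1 x = x := mem_ker_restr.1 k.2
    have hk' : restr H Δᶜ hΔ.compl k.1 = 1 := hk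
    have h2 : ∀ x ∈ Δᶜ, k.1.1 x = x :=
      (mem_ker_restr (hΔ := hΔ.compl)).1 (MonoidHom.mem_ker.2 hk')
    apply Subtype.ext
    apply Subtype.ext
    ext x
    by_cases hx : x ∈ Δ
    · simpa using h1 x hx
    · simpa using h2 x (Finset.mem_compl.2 hx)
  exact Group.isSolvable_of_isSolvable_injective hinj

theorem restr_injective_of_radTriv {H : Subgroup (Perm Ω)} {Δ : Finset Ω} (hΔ : Inv H Δ)
    (hrad : RadTriv ↥H) (hc : Δᶜ.card ≤ 4) : Function.Injective (restr H Δ hΔ) := by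
  rw [← MonoidHom.ker_eq_bot_iff]
  exact hrad _ inferInstance (isSolvable_ker_restr hΔ hc)

theorem restr_injective_of_fix {H : Subgroup (Perm Ω)} {Δ : Finset Ω} (hΔ : Inv H Δ)
    (hfix : ∀ h ∈ H, ∀ x ∉ Δ, h x = x) : Function.Injective (restr H Δ hΔ) := by
  rw [injective_iff_map_eq_one]
  intro k hk
  have h1 : ∀ x ∈ Δ, k.1 x = x := mem_ker_restr.1 (MonoidHom.mem_ker.2 hk)
  apply Subtype.ext
  ext x
  by_cases hx : x ∈ Δ
  · simpa using h1 x hx
  · simpa using hfix k.1 k.2 x hx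

theorem sign_restr {H : Subgroup (Perm Ω)} {Δ : Finset Ω} (hΔ : Inv H Δ) (h : ↥H)
    (hfix : ∀ x ∉ Δ, h.1 x = x) : sign (restr H Δ hΔ h) = sign h.1 := by
  have := sign_subtypePerm h.1 (p := fun x => x ∈ Δ) (fun x => hΔ.iff h.2 x) (fun x hx => by
    by_contra hn
    exact hx (hfix x hn))
  convert this
  rfl

/-- the image of the restriction is transitive when the set is an orbit -/
theorem isPretransitive_range_restr {H : Subgroup (Perm Ω)} {Δ : Finset Ω} (hΔ : Inv H Δ)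
    (htr : ∀ x ∈ Δ, ∀ y ∈ Δ, ∃ h ∈ H, h x = y) :
    MulAction.IsPretransitive ↥(restr H Δ hΔ).range {x // x ∈ Δ} := by
  refine ⟨fun x y => ?_⟩
  obtain ⟨h, hh, hxy⟩ := htr x.1 x.2 y.1 y.2
  refine ⟨⟨restr H Δ hΔ ⟨h, hh⟩, ⟨⟨h, hh⟩, rfl⟩⟩, ?_⟩
  apply Subtype.ext
  exact hxy

theorem orb_transitive (H : Subgroup (Perm Ω)) (a : Ω) :
    ∀ x ∈ orb H a, ∀ y ∈ orb H a, ∃ h ∈ H, h x = y := by
  intro x hx y hy
  obtain ⟨k, hk, rfl⟩ := mem_orb.1 hx
  obtain ⟨l, hl, rfl⟩ := mem_orb.1 hy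
  exact ⟨l * k⁻¹, H.mul_mem hl (H.inv_mem hk), by simp⟩

end Cfsg.Agent.Helper30.A8Sub
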