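/-
Helper30: subgroups of `A_8` with trivial solvable radical (towards S2553).
Part 3: non-solvable transitive groups of degree 5, 6, 7 (with trivial solvable radical).
-/
import Cfsg.Agent.Helper30.A8Sub.Restr
import Cfsg.Agent.Helper96.PSLTwoElt
import Cfsg.Agent.S0494
import Cfsg.Agent.S0495
import Cfsg.Agent.S0255
import Cfsg.Agent.S0678
import Cfsg.Agent.S2119

set_option autoImplicit false
set_option linter.unusedSectionVars false

namespace Cfsg.Agent.Helper30.A8Sub

open Equiv Equiv.Perm

/-- a proper subgroup of index `k` of a finite simple group `G` satisfies `|G| ≤ k!` -/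
theorem card_le_factorial_index_of_simple {G : Type*} [Group G] [Finite G] [IsSimpleGroup G]
    (K : Subgroup G) (hK : K ≠ ⊤) : Nat.card G ≤ K.index.factorial := by
  have hcore : K.normalCore = ⊥ := by
    rcases (K.normalCore_normal).eq_bot_or_eq_top with h | h
    · exact h
    · exfalso
      apply hK
      rw [eq_top_iff, ← h]
      exact K.normalCore_le
  have hinj : Function.Injective (MulAction.toPermHom G (G ⧸ K)) := by
    rw [← MonoidHom.ker_eq_bot_iff, ← Subgroup.normalCore_eq_ker, hcore]
  have := Nat.card_le_card_of_injective _ hinj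
  rwa [Nat.card_perm, ← Subgroup.index_eq_card] at this

variable {α : Type*} [Fintype α] [DecidableEq α]

/-- subgroups of small index in a symmetric group contain the alternating group -/
theorem alternatingGroup_le_of_index_factorial_lt (hα : 5 ≤ Nat.card α) (K : Subgroup (Perm α))
    (h : K.index.factorial < (Nat.card α).factorial) : alternatingGroup α ≤ K := by
  have hcore : K.normalCore ≠ ⊥ := by
    intro hcore
    have hinj : Function.Injective (MulAction.toPermHom (Perm α) (Perm α ⧸ K)) := by
      rw [← MonoidHom.ker_eq_bot_iff, ← Subgroup.normalCore_eq_ker, hcore]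
    have := Nat.card_le_card_of_injective _ hinj
    rw [Nat.card_perm, Nat.card_perm, ← Subgroup.index_eq_card] at this
    omega
  have : Nontrivial ↥K.normalCore := (Subgroup.nontrivial_iff_ne_bot _).2 hcore
  exact (Equiv.Perm.alternatingGroup_le_of_normal hα this).trans K.normalCore_le

/-- subgroups of index at most two of a symmetric group -/
theorem equiv_of_index_le_two {n : ℕ} (hn : Fintype.card α = n) (h2 : 2 ≤ n)
    (K : Subgroup (Perm α)) (hK : K.index ≤ 2) :
    Nonempty (↥K ≃* alternatingGroup (Fin n)) ∨ Nonempty (↥K ≃* Perm (Fin n)) := by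
  have e : α ≃ Fin n := Fintype.equivFinOfCardEq hn
  have : Nontrivial α := by
    rw [← Fintype.one_lt_card_iff_nontrivial]
    omega
  have hpos : K.index ≠ 0 := Subgroup.index_ne_zero_of_finite
  have h12 : K.index = 1 ∨ K.index = 2 := by omega
  rcases h12 with h1 | h1
  · right
    rw [Subgroup.index_eq_one] at h1
    exact ⟨(MulEquiv.subgroupCongr h1).trans (Subgroup.topEquiv.trans e.permCongrHom)⟩
  · left
    have := Equiv.Perm.eq_alternatingGroup_of_index_eq_two h1
    exact ⟨(MulEquiv.subgroupCongr this).trans (Equiv.altCongrHom e)⟩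

theorem card_mul_index_perm {n : ℕ} (hn : Fintype.card α = n) (K : Subgroup (Perm α)) :
    Nat.card ↥K * K.index = n.factorial := by
  rw [Subgroup.card_mul_index, Nat.card_perm, Nat.card_eq_fintype_card, hn]

/-- non-solvable groups of degree 5 -/
theorem deg5 (hα : Fintype.card α = 5) (K : Subgroup (Perm α)) (hns : ¬ Group.IsSolvable ↥K) :
    Nonempty (↥K ≃* alternatingGroup (Fin 5)) ∨ Nonempty (↥K ≃* Perm (Fin 5)) := by
  apply equiv_of_index_le_two hα (by norm_num)
  have h1 := card_mul_index_perm hα K
  have h60 : 60 ≤ Nat.card ↥K := by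
    by_contra hlt
    exact hns (isSolvable_of_card_lt_sixty (by omega))
  have : Nat.factorial 5 = 120 := by decide
  rw [this] at h1
  nlinarith

/-- non-solvable transitive groups of even permutations of degree 7 -/
theorem deg7 (hα : Fintype.card α = 7) (K : Subgroup (Perm α)) [MulAction.IsPretransitive ↥K α]
    (hns : ¬ Group.IsSolvable ↥K) (hK : K ≤ alternatingGroup α) :
    Nonempty (↥K ≃* alternatingGroup (Fin 7)) ∨ Nonempty (↥K ≃* GL (Fin 3) (ZMod 2)) := by
  by_cases hA : alternatingGroup α ≤ K
  · left
    have e : α ≃ Fin 7 := Fintype.equivFinOfCardEq hα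
    exact ⟨(MulEquiv.subgroupCongr (le_antisymm hK hA)).trans (Equiv.altCongrHom e)⟩
  · right
    obtain ⟨hcard, hsimple⟩ := Cfsg.Agent.S0678.result hα K hns hA
    have : Fact (Nat.Prime 7) := ⟨by norm_num⟩
    have : Fact (Nat.Prime 2) := ⟨Nat.prime_two⟩
    obtain ⟨e1⟩ := Cfsg.Agent.S0495.result (G := ↥K) hcard (F := ZMod 7) (ZMod.card 7)
    obtain ⟨e2⟩ := Cfsg.Agent.S0255.result (F := ZMod 7) (K := ZMod 2) (ZMod.card 7) (ZMod.card 2)
    exact ⟨(e1.trans e2).trans
      (Cfsg.Agent.Helper96.pslEquivGLZModTwo (F := ZMod 2) (ZMod.card 2))⟩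

/-- a group of order 120 with trivial solvable radical and a normal subgroup of order 60 is
the symmetric group of degree 5 -/
theorem equiv_perm_five {G : Type} [Group G] [Finite G] (hcard : Nat.card G = 120)
    (hrad : RadTriv G) (A : Subgroup G) [A.Normal] (hA : Nat.card ↥A = 60) :
    Nonempty (G ≃* Perm (Fin 5)) := by
  have hAns : ¬ Group.IsSolvable ↥A := by
    intro hs
    have := hrad A inferInstance hs
    rw [this, Subgroup.card_bot] at hA
    omega
  have hAsimple : IsSimpleGroup ↥A := isSimpleGroup_of_card_sixty hA hAns
  obtain ⟨eA⟩ := Cfsg.Agent.S0494.result (G := ↥A) hA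
  -- the centraliser of `A` is trivial
  have hCA : Disjoint (Subgroup.centralizer (A : Set G)) A := by
    rw [Subgroup.disjoint_def]
    intro x hxC hxA
    have hcen : (⟨x, hxA⟩ : ↥A) ∈ Subgroup.center ↥A := by
      rw [Subgroup.mem_center_iff]
      intro a
      apply Subtype.ext
      simp only [Subgroup.coe_mul]
      exact (Subgroup.mem_centralizer_iff.1 hxC a.1 a.2)
    rcases (inferInstance : (Subgroup.center ↥A).Normal).eq_bot_or_eq_top with h | h
    · rw [h, Subgroup.mem_bot] at hcen
      exact congrArg Subtype.val hcen
    · exfalso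
      apply hAns
      apply Group.isSolvable_of_comm
      intro a b
      have ha : a ∈ Subgroup.center ↥A := by rw [h]; exact Subgroup.mem_top a
      exact (Subgroup.mem_center_iff.1 ha b).symm
  have hC2 : Nat.card ↥(Subgroup.centralizer (A : Set G)) ≤ 2 := by
    have := Nat.card_le_card_of_injective _ (Subgroup.mul_injective_of_disjoint hCA)
    rw [Nat.card_prod, hA, hcard] at this
    omega
  have hCbot : Subgroup.centralizer (A : Set G) = ⊥ :=
    hrad _ inferInstance (isSolvable_of_card_lt_sixty (by omega))
  have hinj : Function.Injective (MulAut.conjNormal (H := A) : G →* MulAut ↥A) := by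
    rw [injective_iff_map_eq_one]
    intro g hg
    have hgC : g ∈ Subgroup.centralizer (A : Set G) := by
      rw [Subgroup.mem_centralizer_iff]
      intro a ha
      have := congrArg (fun φ : MulAut ↥A => ((φ ⟨a, ha⟩ : ↥A) : G)) hg
      simp only [MulAut.conjNormal_apply, MulAut.one_apply] at this
      calc a * g = (g * a * g⁻¹) * g := by rw [this]
        _ = g * a := by group
    rw [hCbot, Subgroup.mem_bot] at hgC
    exact hgC
  let χ : Perm (Fin 5) ≃* MulAut ↥(alternatingGroup (Fin 5)) :=
    MulEquiv.ofBijective MulAut.conjNormal
      (Cfsg.Agent.S2119.result 5 (by norm_num) (by norm_num))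
  let f : G →* Perm (Fin 5) :=
    χ.symm.toMonoidHom.comp ((MulAut.congr eA).toMonoidHom.comp MulAut.conjNormal)
  have hf : Function.Injective f := by
    intro x y hxy
    apply hinj
    apply (MulAut.congr eA).injective
    exact χ.symm.injective hxy
  have hbij : Function.Bijective f := by
    apply hf.bijective_of_nat_card_le
    rw [hcard, Nat.card_perm, Nat.card_eq_fintype_card, Fintype.card_fin]
    decide
  exact ⟨MulEquiv.ofBijective f hbij⟩

/-- non-solvable groups of degree 6 with trivial solvable radical and order divisible by 30 -/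
theorem deg6 {α : Type} [Fintype α] [DecidableEq α] (hα : Fintype.card α = 6)
    (K : Subgroup (Perm α)) (hns : ¬ Group.IsSolvable ↥K)
    (hrad : RadTriv ↥K) (h30 : 30 ∣ Nat.card ↥K) :
    Nonempty (↥K ≃* alternatingGroup (Fin 5)) ∨ Nonempty (↥K ≃* Perm (Fin 5)) ∨
      Nonempty (↥K ≃* alternatingGroup (Fin 6)) ∨ Nonempty (↥K ≃* Perm (Fin 6)) := by
  have h1 := card_mul_index_perm hα K
  have h720 : Nat.factorial 6 = 720 := by decide
  rw [h720] at h1
  have hcα : Nat.card α = 6 := by rw [Nat.card_eq_fintype_card, hα]
  have : Nontrivial α := by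
    rw [← Fintype.one_lt_card_iff_nontrivial]
    omega
  by_cases hidx : K.index ≤ 2
  · rcases equiv_of_index_le_two hα (by norm_num) K hidx with h | h
    · exact Or.inr (Or.inr (Or.inl h))
    · exact Or.inr (Or.inr (Or.inr h))
  · have hidx6 : 6 ≤ K.index := by
      by_contra hlt
      apply hidx
      have hle : alternatingGroup α ≤ K := by
        apply alternatingGroup_le_of_index_factorial_lt (by omega)
        rw [hcα, h720]
        have h5 : K.index ≤ 5 := by omega
        calc K.index.factorial ≤ Nat.factorial 5 := Nat.factorial_le h5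
          _ < 720 := by decide
      have := Subgroup.index_dvd_of_le hle
      rw [alternatingGroup.index_eq_two] at this
      exact Nat.le_of_dvd (by norm_num) this
    have hK120 : Nat.card ↥K ≤ 120 := by nlinarith
    obtain ⟨c, hc⟩ := h30
    have hc4 : c ≤ 4 := by omega
    have hc0 : c ≠ 0 := by
      intro h
      rw [h] at hc
      have := Nat.card_pos (α := ↥K)
      omega
    have hcases : c = 1 ∨ c = 2 ∨ c = 3 ∨ c = 4 := by omega
    rcases hcases with rfl | rfl | rfl | rfl
    · exact absurd (isSolvable_of_card_lt_sixty (by omega)) hns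
    · -- order 60
      have hc60 : Nat.card ↥K = 60 := by omega
      have := isSimpleGroup_of_card_sixty hc60 hns
      exact Or.inl (Cfsg.Agent.S0494.result (G := ↥K) hc60)
    · exact absurd (isSolvable_of_card_le_hundred _ ↥K rfl (by omega) (by omega)) hns
    · -- order 120
      have hc120 : Nat.card ↥K = 120 := by omega
      right; left
      have hnle : ¬ K ≤ alternatingGroup α := by
        intro hle
        have hsimple := alternatingGroup.isSimpleGroup (α := α) (by omega)
        have hcA : Nat.card ↥(alternatingGroup α) = 360 := by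
          have := two_mul_nat_card_alternatingGroup (α := α)
          rw [Nat.card_perm, hcα, h720] at this
          omega
        have hcK' : Nat.card ↥(K.subgroupOf (alternatingGroup α)) = 120 := by
          rw [← hc120]
          exact Nat.card_congr (Subgroup.subgroupOfEquivOfLe hle).toEquiv
        have hmul := Subgroup.card_mul_index (K.subgroupOf (alternatingGroup α))
        rw [hcK', hcA] at hmul
        have hi3 : (K.subgroupOf (alternatingGroup α)).index = 3 := by omega
        have hne : K.subgroupOf (alternatingGroup α) ≠ ⊤ := by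
          intro h
          rw [← Subgroup.index_eq_one, hi3] at h
          omega
        have := card_le_factorial_index_of_simple _ hne
        rw [hi3, hcA] at this
        have h6 : Nat.factorial 3 = 6 := by decide
        omega
      have hAcard : Nat.card ↥((alternatingGroup α).subgroupOf K) = 60 := by
        have hmul := Subgroup.card_mul_index ((alternatingGroup α).subgroupOf K)
        rw [hc120] at hmul
        have hdvd : (alternatingGroup α).relIndex K ∣ 2 := by
          have := Subgroup.relIndex_dvd_index_of_normal (alternatingGroup α) K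
          rwa [alternatingGroup.index_eq_two] at this
        have hne1 : (alternatingGroup α).relIndex K ≠ 1 := by
          rw [Ne, Subgroup.relIndex_eq_one]
          exact hnle
        have h2 : (alternatingGroup α).relIndex K = 2 := by
          have := Nat.le_of_dvd (by norm_num) hdvd
          have hpos : (alternatingGroup α).relIndex K ≠ 0 := fun h => by
            rw [h] at hdvd
            omega
          omega
        rw [Subgroup.relIndex] at h2
        rw [h2] at hmul
        omega
      exact equiv_perm_five hc120 hrad ((alternatingGroup α).subgroupOf K) hAcard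

end Cfsg.Agent.Helper30.A8Sub
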