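/-
Helper30: subgroups of `A_8` with trivial solvable radical (towards S2553).
Part 4: solvable transitive groups of even permutations of degree 7 have order 7 or 21;
simple groups of order 168.
-/
import Cfsg.Agent.Helper30.A8Sub.Deg
import Cfsg.Agent.S0547
import Cfsg.Agent.S0548

set_option autoImplicit false
set_option linter.unusedSectionVars false

namespace Cfsg.Agent.Helper30.A8Sub

open Equiv Equiv.Perm

/-- an involution moving exactly six points is odd -/
theorem sign_of_orderOf_two {α : Type*} [Fintype α] [DecidableEq α] {t : Perm α}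
    (h2 : orderOf t = 2) (hs : t.support.card = 6) : sign t = -1 := by
  obtain ⟨n, hn⟩ := cycleType_prime_order (σ := t) (by rw [h2]; exact Nat.prime_two)
  have hsum := sum_cycleType t
  rw [hn, h2, Multiset.sum_replicate, hs, smul_eq_mul] at hsum
  have hn2 : n = 2 := by omega
  rw [sign_of_cycleType, hn, h2, hn2]
  simp only [Multiset.sum_replicate, Multiset.card_replicate, smul_eq_mul]
  decide

/-- a simple group of order 168 is `GL_3(2)` -/
theorem equiv_gl3_of_card_168 {G : Type*} [Group G] [Finite G] [IsSimpleGroup G]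
    (hcard : Nat.card G = 168) : Nonempty (G ≃* GL (Fin 3) (ZMod 2)) := by
  have : Fact (Nat.Prime 7) := ⟨by norm_num⟩
  have : Fact (Nat.Prime 2) := ⟨Nat.prime_two⟩
  obtain ⟨e1⟩ := Cfsg.Agent.S0495.result (G := G) hcard (F := ZMod 7) (ZMod.card 7)
  obtain ⟨e2⟩ := Cfsg.Agent.S0255.result (F := ZMod 7) (K := ZMod 2) (ZMod.card 7) (ZMod.card 2)
  exact ⟨(e1.trans e2).trans
    (Cfsg.Agent.Helper96.pslEquivGLZModTwo (F := ZMod 2) (ZMod.card 2))⟩

/-- a solvable transitive group of even permutations of degree 7 has order 7 or 21 -/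
theorem card_of_solvable_deg7 {α : Type} [Fintype α] [DecidableEq α] (hα : Fintype.card α = 7)
    (K : Subgroup (Perm α)) [MulAction.IsPretransitive ↥K α] (hs : Group.IsSolvable ↥K)
    (hK : K ≤ alternatingGroup α) : Nat.card ↥K = 7 ∨ Nat.card ↥K = 21 := by
  have hp7 : Fact (Nat.Prime 7) := ⟨by norm_num⟩
  have hcα : Nat.card α = 7 := by rw [Nat.card_eq_fintype_card, hα]
  have : Nonempty α := by
    rw [← Fintype.card_pos_iff, hα]
    norm_num
  have hprim : MulAction.IsPreprimitive ↥K α :=
    MulAction.IsPreprimitive.of_prime_card (by rw [hcα]; norm_num)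
  -- a minimal normal subgroup
  have hKnt : Nontrivial ↥K := by
    by_contra hsub
    rw [not_nontrivial_iff_subsingleton] at hsub
    have h1 : Nat.card α ≤ 1 := by
      rw [Nat.card_eq_fintype_card, Fintype.card_le_one_iff]
      intro x y
      obtain ⟨g, hg⟩ := MulAction.exists_smul_eq ↥K x y
      rw [Subsingleton.elim g 1, one_smul] at hg
      exact hg
    omega
  obtain ⟨M, ⟨hMn, hMne⟩, hMmin⟩ :=
    (wellFounded_lt (α := Subgroup ↥K)).has_min {N | N.Normal ∧ N ≠ ⊥}
      ⟨⊤, inferInstance, top_ne_bot⟩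
  have hmin : ∀ K' : Subgroup ↥K, K'.Normal → K' ≤ M → K' = ⊥ ∨ K' = M := by
    intro K' hK'n hK'M
    by_cases hb : K' = ⊥
    · exact Or.inl hb
    · right
      by_contra hne
      exact hMmin K' ⟨hK'n, hb⟩ (lt_of_le_of_ne hK'M hne)
  obtain ⟨hMtr, hMstab, p, d, hp, hd, hpd, hMcard⟩ :=
    Cfsg.Agent.S0547.result (G := ↥K) (Ω := α) hprim M hMne hmin
  have hM7 : Nat.card ↥M = 7 := by rw [hMcard, ← hpd, hcα]
  obtain ω : α := Classical.arbitrary α
  obtain ⟨hcompl, hcent, -⟩ := Cfsg.Agent.S0548.result (G := ↥K) (Ω := α) hprim M hMne hmin ω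
  have hcard := hcompl.card_mul_card
  rw [hM7] at hcard
  -- the stabiliser embeds in the automorphism group of `M`
  let φ : ↥(MulAction.stabilizer ↥K ω) →* MulAut ↥M :=
    (MulAut.conjNormal (H := M)).comp (MulAction.stabilizer ↥K ω).subtype
  have hφ : Function.Injective φ := by
    rw [injective_iff_map_eq_one]
    intro g hg
    have hgC : g.1 ∈ Subgroup.centralizer (M : Set ↥K) := by
      rw [Subgroup.mem_centralizer_iff]
      intro a ha
      have := congrArg (fun ψ : MulAut ↥M => ((ψ ⟨a, ha⟩ : ↥M) : ↥K)) hg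
      simp only [φ, MonoidHom.comp_apply, Subgroup.coe_subtype, MulAut.conjNormal_apply,
        MulAut.one_apply] at this
      calc a * g.1 = (g.1 * a * g.1⁻¹) * g.1 := by rw [this]
        _ = g.1 * a := by group
    have : g.1 ∈ MulAction.stabilizer ↥K ω ⊓ Subgroup.centralizer (M : Set ↥K) := ⟨g.2, hgC⟩
    rw [hcent, Subgroup.mem_bot] at this
    exact Subtype.ext this
  have hcyc : IsCyclic ↥M := isCyclic_of_prime_card hM7
  have haut : Nat.card (MulAut ↥M) = 6 := by
    rw [IsCyclic.card_mulAut, hM7, Nat.totient_prime (by norm_num)]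
  have hdvd : Nat.card ↥(MulAction.stabilizer ↥K ω) ∣ 6 := by
    rw [← haut]
    exact Subgroup.card_dvd_of_injective φ hφ
  -- the stabiliser has odd order
  have hodd : ¬ 2 ∣ Nat.card ↥(MulAction.stabilizer ↥K ω) := by
    intro h2
    have : Fact (Nat.Prime 2) := ⟨Nat.prime_two⟩
    obtain ⟨t, ht⟩ := exists_prime_orderOf_dvd_card' 2 h2
    -- `t` fixes only `ω`
    have hfix : ∀ x : α, t.1 • x = x → x = ω := by
      intro x hx
      by_contra hxω
      obtain ⟨n, hn⟩ := MulAction.exists_smul_eq ↥M ω x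
      have htω : t.1 • ω = ω := t.2
      have htω' : t.1⁻¹ • ω = ω := by
        rw [inv_smul_eq_iff, htω]
      have hn' : t.1 * n.1 * t.1⁻¹ ∈ M := hMn.conj_mem n.1 n.2 t.1
      have h1 : (t.1 * n.1 * t.1⁻¹) • ω = n.1 • ω := by
        rw [mul_smul, mul_smul, htω']
        have hn2 : n.1 • ω = x := hn
        rw [hn2, hx]
      have h2 : (⟨n.1⁻¹ * (t.1 * n.1 * t.1⁻¹), M.mul_mem (M.inv_mem n.2) hn'⟩ : ↥M) ∈
          MulAction.stabilizer ↥M ω := by
        rw [MulAction.mem_stabilizer_iff]
        show (n.1⁻¹ * (t.1 * n.1 * t.1⁻¹)) • ω = ω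
        rw [mul_smul, h1, ← mul_smul, inv_mul_cancel, one_smul]
      rw [hMstab ω, Subgroup.mem_bot] at h2
      have h3 : n.1⁻¹ * (t.1 * n.1 * t.1⁻¹) = 1 := congrArg Subtype.val h2
      have hcomm : t.1 * n.1 = n.1 * t.1 := by
        have : t.1 * n.1 * t.1⁻¹ = n.1 := by
          rw [← mul_right_inj n.1⁻¹, h3, inv_mul_cancel]
        calc t.1 * n.1 = (t.1 * n.1 * t.1⁻¹) * t.1 := by group
          _ = n.1 * t.1 := by rw [this]
      have hn1 : n ≠ 1 := by
        intro h
        apply hxω
        rw [← hn, h, one_smul]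
      have htC : t.1 ∈ Subgroup.centralizer (M : Set ↥K) := by
        rw [Subgroup.mem_centralizer_iff]
        intro m hm
        have hmz : (⟨m, hm⟩ : ↥M) ∈ Subgroup.zpowers n := mem_zpowers_of_prime_card hM7 hn1
        obtain ⟨k, hk⟩ := Subgroup.mem_zpowers_iff.1 hmz
        have hk' : m = n.1 ^ k := by
          have := congrArg Subtype.val hk
          simpa using this.symm
        rw [hk']
        exact ((Commute.zpow_left (show Commute n.1 t.1 from hcomm.symm) k)).eq
      have : t.1 ∈ MulAction.stabilizer ↥K ω ⊓ Subgroup.centralizer (M : Set ↥K) := ⟨t.2, htC⟩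
      rw [hcent, Subgroup.mem_bot] at this
      have ht1 : t = 1 := Subtype.ext this
      rw [ht1, orderOf_one] at ht
      omega
    -- so `t` is an odd permutation
    have ho : orderOf (t.1.1 : Perm α) = 2 := by
      rw [Subgroup.orderOf_coe, Subgroup.orderOf_coe, ht]
    have hsupp : (t.1.1 : Perm α).support.card = 6 := by
      have hcompl : (t.1.1 : Perm α).supportᶜ = {ω} := by
        ext x
        rw [Finset.mem_compl, Finset.mem_singleton, Equiv.Perm.mem_support, not_not]
        constructor
        · intro hx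
          exact hfix x hx
        · rintro rfl
          exact t.2
      have := Finset.card_compl (t.1.1 : Perm α).support
      rw [hcompl, Finset.card_singleton, hα] at this
      have hle := (t.1.1 : Perm α).support.card_le_univ
      rw [hα] at hle
      omega
    have hsign := sign_of_orderOf_two ho hsupp
    have hmem : (t.1.1 : Perm α) ∈ alternatingGroup α := hK t.1.2
    rw [Equiv.Perm.mem_alternatingGroup, hsign] at hmem
    exact absurd hmem (by decide)
  have h13 : Nat.card ↥(MulAction.stabilizer ↥K ω) = 1 ∨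
      Nat.card ↥(MulAction.stabilizer ↥K ω) = 3 := by
    have hle := Nat.le_of_dvd (by norm_num) hdvd
    have hpos : 0 < Nat.card ↥(MulAction.stabilizer ↥K ω) := Nat.card_pos
    interval_cases h : Nat.card ↥(MulAction.stabilizer ↥K ω)
    · left; rfl
    · exact absurd (dvd_refl 2) hodd
    · right; rfl
    · exact absurd hdvd (by norm_num)
    · exact absurd hdvd (by norm_num)
    · exact absurd (by norm_num : 2 ∣ 6) hodd
  rcases h13 with h | h <;> rw [h] at hcard <;> omega

end Cfsg.Agent.Helper30.A8Sub
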