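/-
Helper30: subgroups of `A_8` with trivial solvable radical (towards S2553).
Part 5: groups of even permutations of degree 8 fixing a point and containing a 7-cycle.
-/
import Cfsg.Agent.Helper30.A8Sub.Gal7

set_option autoImplicit false
set_option linter.unusedSectionVars false

namespace Cfsg.Agent.Helper30.A8Sub

open Equiv Equiv.Perm

theorem card_alternatingGroup_fin_seven : Nat.card ↥(alternatingGroup (Fin 7)) = 2520 := by
  have := two_mul_nat_card_alternatingGroup (α := Fin 7)
  rw [Nat.card_perm, Nat.card_fin] at this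
  have h : Nat.factorial 7 = 5040 := by decide
  omega

theorem card_alternatingGroup_fin_eight : Nat.card ↥(alternatingGroup (Fin 8)) = 20160 := by
  have := two_mul_nat_card_alternatingGroup (α := Fin 8)
  rw [Nat.card_perm, Nat.card_fin] at this
  have h : Nat.factorial 8 = 40320 := by decide
  omega

/-- groups of even permutations of degree 8 fixing a point and containing an element of
order 7 -/
theorem fix_seven (L : Subgroup (Perm (Fin 8))) (hL : L ≤ alternatingGroup (Fin 8)) (a : Fin 8)
    (hfix : ∀ h ∈ L, h a = a) (c : Perm (Fin 8)) (hc : c ∈ L) (hc7 : orderOf c = 7) :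
    (Nonempty (↥L ≃* alternatingGroup (Fin 7)) ∧ Nat.card ↥L = 2520) ∨
      (Nat.card ↥L = 168 ∧ IsSimpleGroup ↥L) ∨ Nat.card ↥L = 7 ∨ Nat.card ↥L = 21 := by
  classical
  have hcyc : c.IsCycle :=
    isCycle_of_prime_order' (by rw [hc7]; norm_num) (by rw [hc7]; simp)
  have hsupp : c.support.card = 7 := by rw [← hcyc.orderOf, hc7]
  have haΔ : a ∉ c.support := by
    rw [mem_support, not_not]
    exact hfix c hc
  have hΔeq : c.support = Finset.univ.erase a := by
    apply Finset.eq_of_subset_of_card_le
    · intro x hx
      rw [Finset.mem_erase]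
      refine ⟨?_, Finset.mem_univ x⟩
      rintro rfl
      exact haΔ hx
    · rw [Finset.card_erase_of_mem (Finset.mem_univ a), hsupp]
      simp
  have hΔa : ∀ x, x ∉ c.support → x = a := by
    intro x hx
    rw [hΔeq, Finset.mem_erase] at hx
    by_contra hne
    exact hx ⟨hne, Finset.mem_univ x⟩
  have hΔ : Inv L c.support := by
    intro h hh x hx
    by_contra hn
    have h1 : h x = a := hΔa _ hn
    have h2 : h x = h a := by rw [h1, hfix h hh]
    rw [h.injective h2] at hx
    exact haΔ hx
  have hinj : Function.Injective (restr L c.support hΔ) :=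
    restr_injective_of_fix hΔ (fun h hh x hx => by rw [hΔa x hx]; exact hfix h hh)
  have hcard7 : Fintype.card {x // x ∈ c.support} = 7 := by
    rw [Fintype.card_coe, hsupp]
  let e : ↥L ≃* ↥(restr L c.support hΔ).range := MonoidHom.ofInjective hinj
  have hcardLK : Nat.card ↥L = Nat.card ↥(restr L c.support hΔ).range :=
    Nat.card_congr e.toEquiv
  have hKalt : (restr L c.support hΔ).range ≤ alternatingGroup {x // x ∈ c.support} := by
    rintro k ⟨h, rfl⟩
    rw [mem_alternatingGroup, sign_restr hΔ h (fun x hx => by rw [hΔa x hx]; exact hfix h.1 h.2)]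
    exact mem_alternatingGroup.1 (hL h.2)
  have htr : MulAction.IsPretransitive ↥(restr L c.support hΔ).range {x // x ∈ c.support} := by
    apply isPretransitive_range_restr hΔ
    intro x hx y hy
    obtain ⟨i, hi⟩ := hcyc.exists_zpow_eq (mem_support.1 hx) (mem_support.1 hy)
    exact ⟨c ^ i, L.zpow_mem hc i, hi⟩
  by_cases hsol : Group.IsSolvable ↥(restr L c.support hΔ).range
  · right; right
    rw [hcardLK]
    exact card_of_solvable_deg7 hcard7 _ hsol hKalt
  · by_cases hA : alternatingGroup {x // x ∈ c.support} ≤ (restr L c.support hΔ).range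
    · left
      have e2 : ↥(restr L c.support hΔ).range ≃* alternatingGroup (Fin 7) :=
        (MulEquiv.subgroupCongr (le_antisymm hKalt hA)).trans
          (Equiv.altCongrHom (Fintype.equivFinOfCardEq hcard7))
      refine ⟨⟨e.trans e2⟩, ?_⟩
      rw [Nat.card_congr (e.trans e2).toEquiv, card_alternatingGroup_fin_seven]
    · right; left
      obtain ⟨h168, hsimple⟩ := Cfsg.Agent.S0678.result hcard7 _ hsol hA
      refine ⟨by rw [hcardLK, h168], ?_⟩
      exact e.isSimpleGroup

end Cfsg.Agent.Helper30.A8Sub
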