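/-
Helper30: subgroups of `A_8` with trivial solvable radical (towards S2553).
Part 6: non-solvable groups of even permutations of degree 8 of order divisible by 7.
-/
import Cfsg.Agent.Helper30.A8Sub.Cyc

set_option autoImplicit false
set_option linter.unusedSectionVars false

namespace Cfsg.Agent.Helper30.A8Sub

open Equiv Equiv.Perm

/-- the order of a non-solvable group of order dividing `20160` is divisible by 7 or by 5 -/
theorem seven_or_five_dvd {G : Type*} [Group G] [Finite G] (hdvd : Nat.card G ∣ 20160)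
    (hns : ¬ Group.IsSolvable G) : 7 ∣ Nat.card G ∨ 5 ∣ Nat.card G := by
  by_contra hcon
  rw [not_or] at hcon
  obtain ⟨h7, h5⟩ := hcon
  apply hns
  have hc7 : Nat.Coprime (Nat.card G) 7 :=
    ((Nat.Prime.coprime_iff_not_dvd (by norm_num)).2 h7).symm
  have hc5 : Nat.Coprime (Nat.card G) 5 :=
    ((Nat.Prime.coprime_iff_not_dvd (by norm_num)).2 h5).symm
  have h576 : Nat.card G ∣ 2 ^ 6 * 3 ^ 2 := by
    have h1 : (20160 : ℕ) = (2 ^ 6 * 3 ^ 2) * (7 * 5) := by norm_num
    rw [h1] at hdvd
    exact (Nat.Coprime.mul_right hc7 hc5).dvd_of_dvd_mul_right hdvd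
  obtain ⟨y, z, hy, hz, hyz⟩ := (Nat.dvd_mul).1 h576
  obtain ⟨a, -, rfl⟩ := (Nat.dvd_prime_pow Nat.prime_two).1 hy
  obtain ⟨b, -, rfl⟩ := (Nat.dvd_prime_pow Nat.prime_three).1 hz
  exact Cfsg.Agent.Lib.burnside_pq 2 3 a b Nat.prime_two Nat.prime_three hyz.symm

/-- non-solvable groups of even permutations of degree 8 of order divisible by 7 -/
theorem case_seven (H : Subgroup (Perm (Fin 8))) (hH : H ≤ alternatingGroup (Fin 8))
    (hns : ¬ Group.IsSolvable ↥H) (h7 : 7 ∣ Nat.card ↥H) :
    Nonempty (↥H ≃* alternatingGroup (Fin 7)) ∨ Nonempty (↥H ≃* alternatingGroup (Fin 8)) ∨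
      Nonempty (↥H ≃* GL (Fin 3) (ZMod 2)) ∨ Nat.card ↥H = 1344 := by
  classical
  have : Fact (Nat.Prime 7) := ⟨by norm_num⟩
  obtain ⟨c', hc'⟩ := exists_prime_orderOf_dvd_card' 7 h7
  have hc : c'.1 ∈ H := c'.2
  have hc7 : orderOf c'.1 = 7 := by rw [Subgroup.orderOf_coe, hc']
  generalize c'.1 = c at hc hc7
  have hcyc : c.IsCycle :=
    isCycle_of_prime_order' (by rw [hc7]; norm_num) (by rw [hc7]; simp)
  have hsupp : c.support.card = 7 := by rw [← hcyc.orderOf, hc7]
  obtain ⟨a, ha⟩ : ∃ a, a ∉ c.support := by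
    by_contra hcon
    have hall : ∀ a, a ∈ c.support := by
      intro a
      by_contra h
      exact hcon ⟨a, h⟩
    have : c.support = Finset.univ := Finset.eq_univ_iff_forall.2 hall
    rw [this, Finset.card_univ, Fintype.card_fin] at hsupp
    omega
  have hca : c a = a := by rwa [mem_support, not_not] at ha
  have hΔa : ∀ x, x ∉ c.support → x = a := by
    intro x hx
    by_contra hne
    have hsub : c.support ⊆ (Finset.univ.erase a).erase x := by
      intro y hy
      rw [Finset.mem_erase, Finset.mem_erase]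
      refine ⟨?_, ?_, Finset.mem_univ y⟩
      · rintro rfl
        exact hx hy
      · rintro rfl
        exact ha hy
    have := Finset.card_le_card hsub
    rw [Finset.card_erase_of_mem (Finset.mem_erase.2 ⟨hne, Finset.mem_univ x⟩),
      Finset.card_erase_of_mem (Finset.mem_univ a), hsupp, Finset.card_univ,
      Fintype.card_fin] at this
    omega
  by_cases hfix : ∀ h ∈ H, h a = a
  · rcases fix_seven H hH a hfix c hc hc7 with ⟨h, -⟩ | ⟨h168, hsimple⟩ | h | h
    · exact Or.inl h
    · exact Or.inr (Or.inr (Or.inl (equiv_gl3_of_card_168 h168)))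
    · exact absurd (isSolvable_of_card_lt_sixty (by omega)) hns
    · exact absurd (isSolvable_of_card_lt_sixty (by omega)) hns
  · right
    have hmove : ∃ h ∈ H, h a ≠ a := by
      by_contra hcon
      apply hfix
      intro h hh
      by_contra hne
      exact hcon ⟨h, hh, hne⟩
    obtain ⟨h, hh, hne⟩ := hmove
    have hb : h a ∈ c.support := by
      by_contra hb
      exact hne (hΔa _ hb)
    have horb : orb H a = Finset.univ := by
      rw [Finset.eq_univ_iff_forall]
      intro x
      by_cases hx : x ∈ c.support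
      · obtain ⟨i, hi⟩ := hcyc.exists_zpow_eq (mem_support.1 hb) (mem_support.1 hx)
        exact mem_orb.2 ⟨c ^ i * h, H.mul_mem (H.zpow_mem hc i) hh, hi⟩
      · rw [hΔa x hx]
        exact self_mem_orb H a
    have hcard := card_orb_mul_card_stab H a
    rw [horb, Finset.card_univ, Fintype.card_fin] at hcard
    rcases fix_seven (stab H a) ((stab_le H a).trans hH) a (fun g hg => (mem_stab.1 hg).2) c
      (mem_stab.2 ⟨hc, hca⟩) hc7 with ⟨-, h1⟩ | ⟨h1, -⟩ | h1 | h1
    · left
      have hHA : H = alternatingGroup (Fin 8) := by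
        apply Subgroup.eq_of_le_of_card_ge hH
        rw [card_alternatingGroup_fin_eight]
        omega
      exact ⟨MulEquiv.subgroupCongr hHA⟩
    · right; right
      omega
    · exact absurd (isSolvable_of_card_lt_sixty (by omega)) hns
    · right; left
      have h168 : Nat.card ↥H = 168 := by omega
      have := isSimpleGroup_of_card_168 h168 hns
      exact equiv_gl3_of_card_168 h168

end Cfsg.Agent.Helper30.A8Sub
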