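/-
Helper30: subgroups of `A_8` with trivial solvable radical (towards S2553).
Part 7: a transitive group of degree `n < 2p` containing an element of prime order `p` is
primitive; with a theorem of Jordan it is doubly transitive when `p + 2 < n`.
-/
import Cfsg.Agent.Helper30.A8Sub.Cyc

set_option autoImplicit false
set_option linter.unusedSectionVars false

namespace Cfsg.Agent.Helper30.A8Sub

open Equiv Equiv.Perm
open scoped Pointwise

/-- if a power of `g` with exponent prime to the prime order of `g` lies in a subgroup, so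
does `g` -/
theorem mem_of_zpow_mem {G : Type*} [Group G] (S : Subgroup G) (g : G) (p : ℕ) (hp : p.Prime)
    (hg : g ^ p = 1) (k : ℤ) (hk : ¬ (p : ℤ) ∣ k) (h : g ^ k ∈ S) : g ∈ S := by
  have hcop : IsCoprime k (p : ℤ) := by
    rw [Int.isCoprime_iff_gcd_eq_one, Int.gcd_comm]
    have : Nat.Coprime p k.natAbs := by
      rw [Nat.Prime.coprime_iff_not_dvd hp]
      rwa [Int.natCast_dvd] at hk
    simpa [Int.gcd] using this
  obtain ⟨u, v, huv⟩ := hcop
  have h1 : g = (g ^ k) ^ u := by
    calc g = g ^ (1 : ℤ) := (zpow_one g).symm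
      _ = g ^ (u * k + v * p) := by rw [huv]
      _ = (g ^ k) ^ u * (g ^ (p : ℤ)) ^ v := by rw [zpow_add, zpow_mul', zpow_mul']
      _ = (g ^ k) ^ u := by rw [zpow_natCast, hg, one_zpow, mul_one]
  rw [h1]
  exact S.zpow_mem h u

variable {α : Type*} [Fintype α] [DecidableEq α]

/-- a transitive permutation group of degree less than `2p` containing an element of prime
order `p` is primitive -/
theorem isPreprimitive_of_prime_order (H : Subgroup (Perm α)) [MulAction.IsPretransitive ↥H α]
    (d : Perm α) (hd : d ∈ H) (p : ℕ) (hp : p.Prime) (hdp : orderOf d = p)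
    (hcard : Fintype.card α < 2 * p) : MulAction.IsPreprimitive ↥H α := by
  have hcyc : d.IsCycle := isCycle_of_prime_order' (by rw [hdp]; exact hp) (by rw [hdp]; exact hcard)
  have hsupp : d.support.card = p := by rw [← hcyc.orderOf, hdp]
  obtain ⟨s, hs⟩ : d.support.Nonempty := by
    rw [← Finset.card_pos, hsupp]
    exact hp.pos
  have hdpow : (⟨d, hd⟩ : ↥H) ^ p = 1 := by
    apply Subtype.ext
    rw [Subgroup.coe_pow, Subgroup.coe_one, ← hdp]
    exact pow_orderOf_eq_one d
  have hsmul : ∀ (i : ℤ) (x : α), ((⟨d, hd⟩ : ↥H) ^ i) • x = (d ^ i) x := by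
    intro i x
    rw [Subgroup.smul_def, Subgroup.coe_zpow, Perm.smul_def]
  apply MulAction.IsPreprimitive.of_isTrivialBlock_base s
  intro B hsB hB
  by_cases hmem : (⟨d, hd⟩ : ↥H) ∈ MulAction.stabilizer ↥H B
  · -- `B` contains the support of `d`
    right
    have hsub : (d.support : Set α) ⊆ B := by
      intro x hx
      obtain ⟨i, hi⟩ := hcyc.exists_zpow_eq (mem_support.1 hs) (mem_support.1 hx)
      have h1 : (⟨d, hd⟩ : ↥H) ^ i ∈ MulAction.stabilizer ↥H B := Subgroup.zpow_mem _ hmem i
      rw [MulAction.mem_stabilizer_iff] at h1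
      rw [← hi, ← hsmul, ← h1]
      exact Set.smul_mem_smul_set hsB
    have hle : p ≤ B.ncard := by
      have := Set.ncard_le_ncard hsub (Set.toFinite B)
      rwa [Set.ncard_coe_finset, hsupp] at this
    have hdvd := hB.ncard_dvd_card ⟨s, hsB⟩
    rw [Set.eq_univ_iff_ncard]
    obtain ⟨m, hm⟩ := hdvd
    rw [Nat.card_eq_fintype_card] at hm ⊢
    have hpos : 0 < Fintype.card α := Fintype.card_pos_iff.2 ⟨s⟩
    rcases Nat.lt_or_ge m 2 with h2 | h2
    · have hm1 : m = 1 := by
        rcases Nat.eq_zero_or_pos m with h0 | h0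
        · rw [h0, mul_zero] at hm
          omega
        · omega
      rw [hm, hm1, mul_one]
    · exfalso
      have : 2 * B.ncard ≤ B.ncard * m := by
        rw [mul_comm]
        exact Nat.mul_le_mul_left _ h2
      omega
  · -- `B` has at most one point
    left
    intro x hx y hy
    by_contra hxy
    let f : Fin p × Bool → α := fun ib => (d ^ (ib.1 : ℕ)) (if ib.2 then x else y)
    have hf : Function.Injective f := by
      rintro ⟨i, b⟩ ⟨j, b'⟩ hij
      have hu : (if b then x else y) ∈ B := by split_ifs <;> assumption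
      have hw : (if b' then x else y) ∈ B := by split_ifs <;> assumption
      have hij' : (d ^ (i : ℕ)) (if b then x else y) = (d ^ (j : ℕ)) (if b' then x else y) := hij
      have hg : ((⟨d, hd⟩ : ↥H) ^ (-(j : ℤ) + (i : ℤ))) • (if b then x else y) =
          (if b' then x else y) := by
        rw [hsmul, zpow_add, Perm.mul_apply, zpow_natCast, hij', zpow_neg, zpow_natCast]
        exact (d ^ (j : ℕ)).symm_apply_apply _
      have hgS : (⟨d, hd⟩ : ↥H) ^ (-(j : ℤ) + (i : ℤ)) ∈ MulAction.stabilizer ↥H B := by
        rw [MulAction.mem_stabilizer_iff]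
        exact hB.smul_eq_of_mem hu (by rw [hg]; exact hw)
      have hijeq : i = j := by
        by_contra hne
        apply hmem
        apply mem_of_zpow_mem _ _ p hp hdpow _ _ hgS
        have hi := i.2
        have hj := j.2
        have hne' : (i : ℕ) ≠ (j : ℕ) := fun h => hne (Fin.ext h)
        intro hdvd
        obtain ⟨t, ht⟩ := hdvd
        have : (i : ℤ) - j = p * t := by linarith
        rcases lt_trichotomy t 0 with h0 | h0 | h0
        · have : (p : ℤ) * t ≤ -(p : ℤ) := by nlinarith
          omega
        · rw [h0, mul_zero] at this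
          omega
        · have : (p : ℤ) ≤ (p : ℤ) * t := by nlinarith
          omega
      subst hijeq
      have h3 : (if b then x else y) = (if b' then x else y) := (d ^ (i : ℕ)).injective hij'
      have hbb : b = b' := by
        cases b <;> cases b' <;> simp_all
      rw [hbb]
    have := Fintype.card_le_of_injective f hf
    rw [Fintype.card_prod, Fintype.card_fin, Fintype.card_bool] at this
    omega

/-- a transitive permutation group of degree 8 containing an element of order 5 has order
divisible by 7 -/
theorem seven_dvd_of_transitive (H : Subgroup (Perm (Fin 8)))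
    [MulAction.IsPretransitive ↥H (Fin 8)] (d : Perm (Fin 8)) (hd : d ∈ H)
    (hd5 : orderOf d = 5) : 7 ∣ Nat.card ↥H := by
  have hprim := isPreprimitive_of_prime_order H d hd 5 (by norm_num) hd5 (by simp)
  have hcyc : d.IsCycle :=
    isCycle_of_prime_order' (by rw [hd5]; norm_num) (by rw [hd5]; simp)
  have hsupp : d.support.card = 5 := by rw [← hcyc.orderOf, hd5]
  have h2 : MulAction.IsMultiplyPretransitive ↥H (Fin 8) 2 := by
    apply hprim.is_two_pretransitive (s := ((d.support : Set (Fin 8)))ᶜ) (n := 2)
    · rw [Set.ncard_compl, Set.ncard_coe_finset, hsupp, Nat.card_fin]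
    · rw [Nat.card_fin]
      norm_num
    · exact isPretransitive_of_isCycle_mem hcyc hd
  let x : Fin 2 ↪ Fin 8 := Fin.castLEEmb (by norm_num)
  have hidx := @MulAction.index_stabilizer_of_transitive ↥H _ _ _ x h2
  have hdvd := Subgroup.index_dvd_card (MulAction.stabilizer ↥H x)
  rw [hidx, Nat.card_eq_fintype_card, Fintype.card_embedding_eq, Fintype.card_fin,
    Fintype.card_fin] at hdvd
  have h56 : Nat.descFactorial 8 2 = 56 := by decide
  rw [h56] at hdvd
  exact dvd_trans (by norm_num : 7 ∣ 56) hdvd

end Cfsg.Agent.Helper30.A8Sub
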