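/-
Helper30: subgroups of `A_8` with trivial solvable radical (towards S2553).
Part 8: groups of degree 8 with trivial solvable radical, of order divisible by 5 and not by 7;
the classification of the subgroups of `A_8` with trivial solvable radical up to one order.
-/
import Cfsg.Agent.Helper30.A8Sub.Case7
import Cfsg.Agent.Helper30.A8Sub.Prim

set_option autoImplicit false
set_option linter.unusedSectionVars false

namespace Cfsg.Agent.Helper30.A8Sub

open Equiv Equiv.Perm

/-- groups of degree 8 with trivial solvable radical, of order divisible by 5 and not by 7 -/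
theorem case_five (H : Subgroup (Perm (Fin 8))) (hns : ¬ Group.IsSolvable ↥H)
    (hrad : RadTriv ↥H) (h5 : 5 ∣ Nat.card ↥H) (h7 : ¬ 7 ∣ Nat.card ↥H) :
    Nonempty (↥H ≃* alternatingGroup (Fin 5)) ∨ Nonempty (↥H ≃* Perm (Fin 5)) ∨
      Nonempty (↥H ≃* alternatingGroup (Fin 6)) ∨ Nonempty (↥H ≃* Perm (Fin 6)) := by
  classical
  have : Fact (Nat.Prime 5) := ⟨by norm_num⟩
  obtain ⟨d', hd'⟩ := exists_prime_orderOf_dvd_card' 5 h5
  have hd : d'.1 ∈ H := d'.2
  have hd5 : orderOf d'.1 = 5 := by rw [Subgroup.orderOf_coe, hd']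
  generalize d'.1 = d at hd hd5
  have hcyc : d.IsCycle :=
    isCycle_of_prime_order' (by rw [hd5]; norm_num) (by rw [hd5]; simp)
  have hsupp : d.support.card = 5 := by rw [← hcyc.orderOf, hd5]
  obtain ⟨s, hs⟩ : d.support.Nonempty := by
    rw [← Finset.card_pos, hsupp]
    norm_num
  have hsub : d.support ⊆ orb H s := by
    intro x hx
    obtain ⟨i, hi⟩ := hcyc.exists_zpow_eq (mem_support.1 hs) (mem_support.1 hx)
    exact mem_orb.2 ⟨d ^ i, H.zpow_mem hd i, hi⟩
  have hge : 5 ≤ (orb H s).card := by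
    rw [← hsupp]
    exact Finset.card_le_card hsub
  have hle : (orb H s).card ≤ 8 := by
    have := Finset.card_le_univ (orb H s)
    rwa [Fintype.card_fin] at this
  have hcard := card_orb_mul_card_stab H s
  have hcompl : (orb H s)ᶜ.card = 8 - (orb H s).card := by
    rw [Finset.card_compl, Fintype.card_fin]
  have hΔ := inv_orb H s
  have hne7 : (orb H s).card ≠ 7 := by
    intro h
    apply h7
    rw [← hcard, h]
    exact dvd_mul_right _ _
  by_cases h8 : (orb H s).card = 8
  · -- transitive: impossible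
    exfalso
    have huniv : orb H s = Finset.univ := by
      rw [← Finset.card_eq_iff_eq_univ, h8, Fintype.card_fin]
    have : MulAction.IsPretransitive ↥H (Fin 8) := by
      refine ⟨fun x y => ?_⟩
      obtain ⟨h, hh, hxy⟩ := orb_transitive H s x (by rw [huniv]; exact Finset.mem_univ x) y
        (by rw [huniv]; exact Finset.mem_univ y)
      exact ⟨⟨h, hh⟩, hxy⟩
    exact h7 (seven_dvd_of_transitive H d hd hd5)
  · have hinj : Function.Injective (restr H (orb H s) hΔ) :=
      restr_injective_of_radTriv hΔ hrad (by omega)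
    let e : ↥H ≃* ↥(restr H (orb H s) hΔ).range := MonoidHom.ofInjective hinj
    have hnsK : ¬ Group.IsSolvable ↥(restr H (orb H s) hΔ).range := by
      intro hsol
      exact hns (Group.isSolvable_of_isSolvable_injective e.injective)
    have h56 : (orb H s).card = 5 ∨ (orb H s).card = 6 := by omega
    rcases h56 with h | h
    · have hα : Fintype.card {x // x ∈ orb H s} = 5 := by rw [Fintype.card_coe, h]
      rcases deg5 hα _ hnsK with h1 | h1
      · obtain ⟨e2⟩ := h1
        exact Or.inl ⟨e.trans e2⟩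
      · obtain ⟨e2⟩ := h1
        exact Or.inr (Or.inl ⟨e.trans e2⟩)
    · have hα : Fintype.card {x // x ∈ orb H s} = 6 := by rw [Fintype.card_coe, h]
      have h30 : 30 ∣ Nat.card ↥(restr H (orb H s) hΔ).range := by
        rw [← Nat.card_congr e.toEquiv]
        have h6 : 6 ∣ Nat.card ↥H := by
          rw [← hcard, h]
          exact dvd_mul_right _ _
        exact Nat.Coprime.mul_dvd_of_dvd_of_dvd (by norm_num : Nat.Coprime 6 5) h6 h5
      rcases deg6 hα _ hnsK (hrad.of_equiv e) h30 with h1 | h1 | h1 | h1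
      · obtain ⟨e2⟩ := h1
        exact Or.inl ⟨e.trans e2⟩
      · obtain ⟨e2⟩ := h1
        exact Or.inr (Or.inl ⟨e.trans e2⟩)
      · obtain ⟨e2⟩ := h1
        exact Or.inr (Or.inr (Or.inl ⟨e.trans e2⟩))
      · obtain ⟨e2⟩ := h1
        exact Or.inr (Or.inr (Or.inr ⟨e.trans e2⟩))

/-- subgroups of `A_8` with trivial solvable radical: the list, or order 1344 -/
theorem main_perm (H : Subgroup (Perm (Fin 8))) (hH : H ≤ alternatingGroup (Fin 8))
    (hne : H ≠ ⊥) (hrad : RadTriv ↥H) :
    (∃ n, 5 ≤ n ∧ n ≤ 8 ∧ Nonempty (↥H ≃* alternatingGroup (Fin n))) ∨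
      Nonempty (↥H ≃* Perm (Fin 5)) ∨ Nonempty (↥H ≃* Perm (Fin 6)) ∨
      Nonempty (↥H ≃* GL (Fin 3) (ZMod 2)) ∨ Nat.card ↥H = 1344 := by
  have : Nontrivial ↥H := (Subgroup.nontrivial_iff_ne_bot H).2 hne
  have hns : ¬ Group.IsSolvable ↥H := hrad.not_isSolvable
  have hdvd : Nat.card ↥H ∣ 20160 := by
    rw [← card_alternatingGroup_fin_eight]
    exact Subgroup.card_dvd_of_le hH
  by_cases h7 : 7 ∣ Nat.card ↥H
  · rcases case_seven H hH hns h7 with h | h | h | h
    · exact Or.inl ⟨7, by norm_num, by norm_num, h⟩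
    · exact Or.inl ⟨8, by norm_num, by norm_num, h⟩
    · exact Or.inr (Or.inr (Or.inr (Or.inl h)))
    · exact Or.inr (Or.inr (Or.inr (Or.inr h)))
  · have h5 : 5 ∣ Nat.card ↥H := by
      rcases seven_or_five_dvd hdvd hns with h | h
      · exact absurd h h7
      · exact h
    rcases case_five H hns hrad h5 h7 with h | h | h | h
    · exact Or.inl ⟨5, by norm_num, by norm_num, h⟩
    · exact Or.inr (Or.inl h)
    · exact Or.inl ⟨6, by norm_num, by norm_num, h⟩
    · exact Or.inr (Or.inr (Or.inl h))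

end Cfsg.Agent.Helper30.A8Sub
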