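/-
Helper30: subgroups of `A_8` with trivial solvable radical (towards S2553).
Part 9: a group with trivial solvable radical acting faithfully on an abelian group
and leaving invariant a subgroup of index two acts faithfully on the non-zero elements of that
subgroup.
-/
import Cfsg.Agent.Helper30.A8Sub.Rad

set_option autoImplicit false
set_option linter.unusedSectionVars false

namespace Cfsg.Agent.Helper30.A8Sub

open Equiv Equiv.Perm

theorem card_dvd_of_invariant_index_two {H X : Type*} [Group H] [Finite H] [AddCommGroup X]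
    [Finite X] (act : H →* Perm X)
    (hadd : ∀ h x y, act h (x + y) = act h x + act h y) (hinj : Function.Injective act)
    (W : AddSubgroup X) (hW2 : W.index = 2) (hinv : ∀ h, ∀ w ∈ W, act h w ∈ W)
    (hrad : RadTriv H) : ∃ n, n < Nat.card ↥W ∧ Nat.card H ∣ n.factorial := by
  classical
  have hzero : ∀ h, act h 0 = 0 := by
    intro h
    have := hadd h 0 0
    rw [add_zero] at this
    exact (add_eq_left.1 this.symm)
  have hWiff : ∀ h x, act h x ∈ W ↔ x ∈ W := by
    intro h x
    constructor
    · intro hx
      have := hinv h⁻¹ _ hx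
      have h2 : (act h)⁻¹ (act h x) = x := (act h).symm_apply_apply x
      rwa [map_inv, h2] at this
    · exact hinv h x
  have hne : ∀ h x, act h x ≠ 0 ↔ x ≠ 0 := by
    intro h x
    rw [not_iff_not]
    constructor
    · intro hx
      rw [← hzero h] at hx
      exact (act h).injective hx
    · rintro rfl
      exact hzero h
  let r : H →* Perm {w : X // w ∈ W ∧ w ≠ 0} :=
    { toFun := fun h => subtypePerm (act h) (fun x => by rw [hWiff, hne])
      map_one' := by
        ext x
        show (act 1) x.1 = x.1
        rw [map_one]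
        rfl
      map_mul' := by
        intro a b
        ext x
        show (act (a * b)) x.1 = act a (act b x.1)
        rw [map_mul]
        rfl }
  have hker : ∀ g ∈ r.ker, ∀ w ∈ W, act g w = w := by
    intro g hg w hw
    by_cases hw0 : w = 0
    · rw [hw0, hzero]
    · have h1 : r g = 1 := MonoidHom.mem_ker.1 hg
      have := congrArg (fun f : Perm {w : X // w ∈ W ∧ w ≠ 0} => ((f ⟨w, hw, hw0⟩ : _) : X)) h1
      simpa [r] using this
  have hsq : ∀ g ∈ r.ker, g * g = 1 := by
    intro g hg
    apply hinj
    rw [map_mul, map_one]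
    ext u
    rw [Perm.mul_apply, Perm.one_apply]
    by_cases hu : u ∈ W
    · rw [hker g hg u hu, hker g hg u hu]
    · have hgu : act g u ∉ W := by rwa [hWiff]
      have hsum : act g u + u ∈ W := by
        rw [AddSubgroup.add_mem_iff_of_index_two hW2]
        exact ⟨fun h => absurd h hgu, fun h => absurd h hu⟩
      have h2 := hker g hg _ hsum
      rw [hadd] at h2
      have h4 : act g (act g u) + act g u = u + act g u := by rw [h2, add_comm]
      exact add_right_cancel h4
  have hcomm : ∀ a b : ↥r.ker, a * b = b * a := by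
    intro a b
    have ha := hsq a.1 a.2
    have hb := hsq b.1 b.2
    have hab := hsq (a.1 * b.1) (r.ker.mul_mem a.2 b.2)
    apply Subtype.ext
    rw [Subgroup.coe_mul, Subgroup.coe_mul]
    have ha' : a.1⁻¹ = a.1 := inv_eq_of_mul_eq_one_left ha
    have hb' : b.1⁻¹ = b.1 := inv_eq_of_mul_eq_one_left hb
    have hab' : (a.1 * b.1)⁻¹ = a.1 * b.1 := inv_eq_of_mul_eq_one_left hab
    rw [mul_inv_rev, ha', hb'] at hab'
    exact hab'.symm
  have hkerbot : r.ker = ⊥ := hrad _ inferInstance (Group.isSolvable_of_comm hcomm)
  have hrinj : Function.Injective r := (MonoidHom.ker_eq_bot_iff r).1 hkerbot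
  refine ⟨Nat.card {w : X // w ∈ W ∧ w ≠ 0}, ?_, ?_⟩
  · have : Fintype {w : X // w ∈ W ∧ w ≠ 0} := Fintype.ofFinite _
    have : Fintype ↥W := Fintype.ofFinite _
    rw [Nat.card_eq_fintype_card, Nat.card_eq_fintype_card]
    apply Fintype.card_lt_of_injective_of_notMem
      (fun w : {w : X // w ∈ W ∧ w ≠ 0} => (⟨w.1, w.2.1⟩ : ↥W)) (b := (0 : ↥W))
    · intro a b hab
      apply Subtype.ext
      exact congrArg (fun z : ↥W => (z : X)) hab
    · rintro ⟨w, hw⟩
      apply w.2.2
      exact congrArg (fun z : ↥W => (z : X)) hw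
  · rw [← Nat.card_perm]
    exact Subgroup.card_dvd_of_injective r hrinj

end Cfsg.Agent.Helper30.A8Sub
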