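/-
Helper30: subgroups of `A_8` with trivial solvable radical (towards S2553).
Part 10: subgroups of `GL_4(2)` of order 1344 fixing a non-zero vector or stabilising a
hyperplane have a non-trivial normal 2-subgroup.
-/
import Cfsg.Agent.Helper30.A8Sub.Idx2

set_option autoImplicit false
set_option linter.unusedSectionVars false

namespace Cfsg.Agent.Helper30.A8Sub

open Equiv Equiv.Perm Matrix

section acts

variable {n : Type*} [Fintype n] [DecidableEq n] {R : Type*} [CommRing R]

/-- the action of the general linear group on column vectors -/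
def colAct : GL n R →* Perm (n → R) where
  toFun g :=
    { toFun := fun x => g.1 *ᵥ x
      invFun := fun x => (g⁻¹).1 *ᵥ x
      left_inv := fun x => by
        show (g⁻¹).1 *ᵥ (g.1 *ᵥ x) = x
        rw [mulVec_mulVec, ← Units.val_mul, inv_mul_cancel, Units.val_one, one_mulVec]
      right_inv := fun x => by
        show g.1 *ᵥ ((g⁻¹).1 *ᵥ x) = x
        rw [mulVec_mulVec, ← Units.val_mul, mul_inv_cancel, Units.val_one, one_mulVec] }
  map_one' := by
    ext x : 1
    show (1 : GL n R).1 *ᵥ x = x
    rw [Units.val_one, one_mulVec]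
  map_mul' a b := by
    ext x : 1
    show (a * b).1 *ᵥ x = a.1 *ᵥ (b.1 *ᵥ x)
    rw [mulVec_mulVec, Units.val_mul]

@[simp]
theorem colAct_apply (g : GL n R) (x : n → R) : colAct g x = g.1 *ᵥ x := rfl

theorem colAct_injective : Function.Injective (colAct : GL n R →* Perm (n → R)) := by
  intro a b hab
  apply Units.ext
  apply Matrix.mulVec_injective
  funext x
  have := congrArg (fun f : Perm (n → R) => f x) hab
  simpa using this

/-- the action of the general linear group on row vectors -/
def rowAct : GL n R →* Perm (n → R) where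
  toFun g :=
    { toFun := fun x => x ᵥ* (g⁻¹).1
      invFun := fun x => x ᵥ* g.1
      left_inv := fun x => by
        show (x ᵥ* (g⁻¹).1) ᵥ* g.1 = x
        rw [vecMul_vecMul, ← Units.val_mul, inv_mul_cancel, Units.val_one, vecMul_one]
      right_inv := fun x => by
        show (x ᵥ* g.1) ᵥ* (g⁻¹).1 = x
        rw [vecMul_vecMul, ← Units.val_mul, mul_inv_cancel, Units.val_one, vecMul_one] }
  map_one' := by
    ext x : 1
    show x ᵥ* ((1 : GL n R)⁻¹).1 = x
    rw [inv_one, Units.val_one, vecMul_one]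
  map_mul' a b := by
    ext x : 1
    show x ᵥ* ((a * b)⁻¹).1 = (x ᵥ* (b⁻¹).1) ᵥ* (a⁻¹).1
    rw [vecMul_vecMul, _root_.mul_inv_rev, Units.val_mul]

@[simp]
theorem rowAct_apply (g : GL n R) (x : n → R) : rowAct g x = x ᵥ* (g⁻¹).1 := rfl

theorem rowAct_injective : Function.Injective (rowAct : GL n R →* Perm (n → R)) := by
  intro a b hab
  apply inv_injective
  apply Units.ext
  apply Matrix.vecMul_injective
  funext x
  have := congrArg (fun f : Perm (n → R) => f x) hab
  simpa using this

end acts

theorem card_vec : Nat.card (Fin 4 → ZMod 2) = 16 := by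
  rw [Nat.card_eq_fintype_card, Fintype.card_fun, Fintype.card_fin, ZMod.card]
  norm_num

theorem not_dvd_factorial {k : ℕ} (hk : k < 8) : ¬ 1344 ∣ k.factorial := by
  intro h
  have h1 : k.factorial ∣ Nat.factorial 7 := Nat.factorial_dvd_factorial (by omega)
  have h2 := dvd_trans h h1
  have h3 : Nat.factorial 7 = 5040 := by decide
  rw [h3] at h2
  omega

/-- a subgroup of `GL_4(2)` of order 1344 stabilising a hyperplane has a non-trivial solvable
normal subgroup -/
theorem not_radTriv_of_invariant (H : Subgroup (GL (Fin 4) (ZMod 2)))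
    (hcard : Nat.card ↥H = 1344) (W : AddSubgroup (Fin 4 → ZMod 2)) (hW2 : W.index = 2)
    (hinv : ∀ h ∈ H, ∀ w ∈ W, h.1 *ᵥ w ∈ W) : ¬ RadTriv ↥H := by
  intro hrad
  have hW8 : Nat.card ↥W = 8 := by
    have := AddSubgroup.card_mul_index W
    rw [hW2, card_vec] at this
    omega
  obtain ⟨k, hk, hdvd⟩ := card_dvd_of_invariant_index_two
    ((colAct (n := Fin 4) (R := ZMod 2)).comp H.subtype)
    (fun h x y => by simp [mulVec_add])
    (colAct_injective.comp H.subtype_injective) W hW2
    (fun h w hw => hinv h.1 h.2 w hw) hrad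
  rw [hW8] at hk
  rw [hcard] at hdvd
  exact not_dvd_factorial hk hdvd

/-- a subgroup of `GL_4(2)` of order 1344 fixing a non-zero vector has a non-trivial solvable
normal subgroup -/
theorem not_radTriv_of_fixed (H : Subgroup (GL (Fin 4) (ZMod 2)))
    (hcard : Nat.card ↥H = 1344) (v : Fin 4 → ZMod 2) (hv : v ≠ 0)
    (hfix : ∀ h ∈ H, h.1 *ᵥ v = v) : ¬ RadTriv ↥H := by
  intro hrad
  let f : (Fin 4 → ZMod 2) →+ ZMod 2 :=
    { toFun := fun φ => φ ⬝ᵥ v
      map_zero' := zero_dotProduct v
      map_add' := fun a b => add_dotProduct a b v }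
  have hrange : f.range = ⊤ := by
    rw [AddMonoidHom.range_eq_top]
    obtain ⟨j, hj⟩ : ∃ j, v j ≠ 0 := by
      by_contra hcon
      apply hv
      funext j
      by_contra hj
      exact hcon ⟨j, hj⟩
    intro a
    refine ⟨Pi.single j (a * (v j)⁻¹), ?_⟩
    show Pi.single j (a * (v j)⁻¹) ⬝ᵥ v = a
    rw [single_dotProduct]
    have : Fact (Nat.Prime 2) := ⟨Nat.prime_two⟩
    field_simp
  have hW2 : f.ker.index = 2 := by
    rw [AddSubgroup.index_ker, hrange]
    rw [Nat.card_congr AddSubgroup.topEquiv.toEquiv, Nat.card_eq_fintype_card, ZMod.card]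
  have hW8 : Nat.card ↥f.ker = 8 := by
    have := AddSubgroup.card_mul_index f.ker
    rw [hW2, card_vec] at this
    omega
  have hfix' : ∀ h ∈ H, (h⁻¹).1 *ᵥ v = v := by
    intro h hh
    have := hfix h⁻¹ (H.inv_mem hh)
    exact this
  obtain ⟨k, hk, hdvd⟩ := card_dvd_of_invariant_index_two
    ((rowAct (n := Fin 4) (R := ZMod 2)).comp H.subtype)
    (fun h x y => by simp [add_vecMul])
    (rowAct_injective.comp H.subtype_injective) f.ker hW2
    (fun h w hw => by
      rw [AddMonoidHom.mem_ker] at hw ⊢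
      show (w ᵥ* (h.1⁻¹).1) ⬝ᵥ v = 0
      rw [← dotProduct_mulVec, hfix' h.1 h.2]
      exact hw) hrad
  rw [hW8] at hk
  rw [hcard] at hdvd
  exact not_dvd_factorial hk hdvd

end Cfsg.Agent.Helper30.A8Sub
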