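/-
Helper30: subgroups of `A_8` with trivial solvable radical (towards S2553).
Part 11: a group of additive permutations of an elementary abelian group of order 16, of order
divisible by 7 and not by 15, fixes a non-zero element or stabilises a subgroup of index two.
-/
import Cfsg.Agent.Helper30.A8Sub.Prim
import Cfsg.Agent.Helper30.A8Sub.Lin

set_option autoImplicit false
set_option linter.unusedSectionVars false

namespace Cfsg.Agent.Helper30.A8Sub

open Equiv Equiv.Perm

/-- the size of an invariant set without fixed points of a permutation of prime order -/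
theorem dvd_card_of_invariant {Ω : Type*} [Fintype Ω] [DecidableEq Ω] (σ : Perm Ω) (p : ℕ)
    [Fact p.Prime] (hσ : σ ^ p = 1) (B : Finset Ω) (hinv : ∀ x, σ x ∈ B ↔ x ∈ B)
    (hmove : ∀ x ∈ B, σ x ≠ x) : p ∣ B.card := by
  have hτ : (σ.subtypePerm hinv) ^ p ^ 1 = 1 := by
    rw [pow_one, subtypePerm_pow]
    ext x
    simp [hσ]
  have h1 := card_compl_support_modEq (p := p) (n := 1) hτ
  have h2 : (σ.subtypePerm hinv).supportᶜ = ∅ := by
    rw [Finset.eq_empty_iff_forall_notMem]
    intro x hx
    rw [Finset.mem_compl, mem_support, not_not] at hx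
    exact hmove x.1 x.2 (congrArg Subtype.val hx)
  rw [h2, Finset.card_empty, Fintype.card_coe] at h1
  exact (Nat.modEq_zero_iff_dvd).1 h1.symm

section dich

variable {X : Type*} [AddCommGroup X] [Fintype X] [DecidableEq X]

theorem fixed_or_invariant_aux (hX2 : ∀ x : X, x + x = 0) (hX : Fintype.card X = 16)
    (P : Subgroup (Perm X)) (hadd : ∀ h ∈ P, ∀ x y, h (x + y) = h x + h y)
    (h7 : 7 ∣ Nat.card ↥P) (h15 : ¬ 15 ∣ Nat.card ↥P) :
    (∃ v : X, v ≠ 0 ∧ ∀ h ∈ P, h v = v) ∨
      (∃ W : AddSubgroup X, W.index = 2 ∧ ∀ h ∈ P, ∀ w ∈ W, h w ∈ W) := by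
  classical
  have : Fact (Nat.Prime 7) := ⟨by norm_num⟩
  obtain ⟨σ', hσ'⟩ := exists_prime_orderOf_dvd_card' 7 h7
  have hσP : σ'.1 ∈ P := σ'.2
  have hσ7 : orderOf σ'.1 = 7 := by rw [Subgroup.orderOf_coe, hσ']
  generalize σ'.1 = σ at hσP hσ7
  have hσpow : σ ^ 7 = 1 := by
    rw [← hσ7]
    exact pow_orderOf_eq_one σ
  have hzero : ∀ h ∈ P, h 0 = 0 := by
    intro h hh
    have := hadd h hh 0 0
    rw [add_zero] at this
    exact add_eq_left.1 this.symm
  let A : ∀ h ∈ P, X →+ X := fun h hh => AddMonoidHom.mk' h (hadd h hh)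
  have hA : ∀ h (hh : h ∈ P) x, A h hh x = h x := fun h hh x => rfl
  have hpowP : ∀ i : ℕ, σ ^ i ∈ P := fun i => P.pow_mem hσP i
  let N : X →+ X := ∑ i ∈ Finset.range 7, A (σ ^ i) (hpowP i)
  have hN : ∀ x, N x = ∑ i ∈ Finset.range 7, (σ ^ i) x := by
    intro x
    simp only [N, AddMonoidHom.finsetSum_apply, hA]
  have hσN : ∀ x, σ (N x) = N x := by
    intro x
    have h1 : σ (N x) = ∑ i ∈ Finset.range 7, (σ ^ (i + 1)) x := by
      rw [hN]
      have := map_sum (A σ hσP) (fun i => (σ ^ i) x) (Finset.range 7)
      simp only [hA] at this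
      rw [this]
      apply Finset.sum_congr rfl
      intro i _
      rw [pow_succ', Perm.mul_apply]
    rw [h1, hN]
    have e1 := Finset.sum_range_succ (fun i => (σ ^ i) x) 7
    have e2 := Finset.sum_range_succ' (fun i => (σ ^ i) x) 7
    rw [e1] at e2
    simp only [hσpow, pow_zero] at e2
    exact (add_right_cancel e2).symm
  -- the fixed points
  let FA : AddSubgroup X := (A σ hσP - AddMonoidHom.id X).ker
  have hFA : ∀ x, x ∈ FA ↔ σ x = x := by
    intro x
    simp only [FA, AddMonoidHom.mem_ker, AddMonoidHom.sub_apply, hA, AddMonoidHom.id_apply,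
      sub_eq_zero]
  have hFAcard : Nat.card ↥FA = σ.supportᶜ.card := by
    rw [← Fintype.card_coe, ← Nat.card_eq_fintype_card]
    apply Nat.card_congr
    exact Equiv.subtypeEquivRight (fun x => by rw [hFA, Finset.mem_compl, mem_support, not_not])
  have hmod := card_compl_support_modEq (p := 7) (n := 1) (σ := σ) (by rw [pow_one]; exact hσpow)
  rw [hX, ← hFAcard] at hmod
  have hdvd16 : Nat.card ↥FA ∣ 16 := by
    have := AddSubgroup.card_addSubgroup_dvd_card FA
    rwa [Nat.card_eq_fintype_card (α := X), hX] at this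
  have hFA2 : Nat.card ↥FA = 2 := by
    have h16 : (16 : ℕ) = 2 ^ 4 := by norm_num
    rw [h16] at hdvd16
    obtain ⟨k, hk, hk2⟩ := (Nat.dvd_prime_pow Nat.prime_two).1 hdvd16
    rw [hk2] at hmod ⊢
    unfold Nat.ModEq at hmod
    interval_cases k
    · norm_num at hmod
    · rfl
    · norm_num at hmod
    · norm_num at hmod
    · exfalso
      have htop : FA = ⊤ := by
        apply AddSubgroup.eq_top_of_card_eq
        rw [hk2, Nat.card_eq_fintype_card (α := X), hX]
        norm_num
      have h1 : σ = 1 := by
        ext x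
        have hx : x ∈ FA := by
          rw [htop]
          exact AddSubgroup.mem_top x
        exact (hFA x).1 hx
      rw [h1, orderOf_one] at hσ7
      omega
  obtain ⟨v, hv0, hvfix, hFAel⟩ : ∃ v : X, v ≠ 0 ∧ σ v = v ∧ ∀ x, σ x = x → x = 0 ∨ x = v := by
    obtain ⟨v', hv'ne, hv'uniq⟩ := (Nat.card_eq_two_iff' (0 : ↥FA)).1 hFA2
    refine ⟨v'.1, fun h => hv'ne (Subtype.ext h), (hFA _).1 v'.2, ?_⟩
    intro x hx
    by_cases hx0 : x = 0
    · exact Or.inl hx0
    · right
      have := hv'uniq ⟨x, (hFA x).2 hx⟩ (fun h => hx0 (congrArg Subtype.val h))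
      exact congrArg Subtype.val this
  -- the orbit of `v`
  have hO0 : (0 : X) ∉ orb P v := by
    intro h0
    obtain ⟨h, hh, hv⟩ := mem_orb.1 h0
    apply hv0
    rw [← hzero h hh] at hv
    exact h.injective hv
  let B : Finset X := (Finset.univ.erase 0) \ orb P v
  have hBmem : ∀ x, x ∈ B ↔ x ≠ 0 ∧ x ∉ orb P v := by
    intro x
    simp [B]
  have hOsub : orb P v ⊆ Finset.univ.erase 0 := by
    intro x hx
    rw [Finset.mem_erase]
    exact ⟨fun h => hO0 (h ▸ hx), Finset.mem_univ x⟩
  have hBcard : B.card = 15 - (orb P v).card := by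
    rw [Finset.card_sdiff_of_subset hOsub, Finset.card_erase_of_mem (Finset.mem_univ 0),
      Finset.card_univ, hX]
  have hOle : (orb P v).card ≤ 15 := by
    have := Finset.card_le_card hOsub
    rwa [Finset.card_erase_of_mem (Finset.mem_univ 0), Finset.card_univ, hX] at this
  have hBinv : Inv P B := by
    intro h hh x hx
    rw [hBmem] at hx ⊢
    refine ⟨?_, ?_⟩
    · intro h0
      apply hx.1
      rw [← hzero h hh] at h0
      exact h.injective h0
    · rw [(inv_orb P v).iff hh]
      exact hx.2
  have hBmove : ∀ x ∈ B, σ x ≠ x := by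
    intro x hx hfix
    rw [hBmem] at hx
    rcases hFAel x hfix with h | h
    · exact hx.1 h
    · exact hx.2 (h ▸ self_mem_orb P v)
  have h7B : 7 ∣ B.card :=
    dvd_card_of_invariant σ 7 hσpow B (fun x => hBinv.iff hσP x) hBmove
  have hcardO := card_orb_mul_card_stab P v
  have hOdvd : (orb P v).card ∣ Nat.card ↥P := ⟨_, hcardO.symm⟩
  have hOpos : 0 < (orb P v).card := Finset.card_pos.2 ⟨v, self_mem_orb P v⟩
  have hO18 : (orb P v).card = 1 ∨ (orb P v).card = 8 := by
    obtain ⟨m, hm⟩ := h7B
    have hm' : m = 0 ∨ m = 1 ∨ m = 2 := by omega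
    rcases hm' with rfl | rfl | rfl
    · exfalso
      apply h15
      have : (orb P v).card = 15 := by omega
      rwa [this] at hOdvd
    · right; omega
    · left; omega
  rcases hO18 with hO1 | hO8
  · left
    refine ⟨v, hv0, ?_⟩
    intro h hh
    obtain ⟨a, ha⟩ := Finset.card_eq_one.1 hO1
    have h1 : h v ∈ orb P v := mem_orb.2 ⟨h, hh, rfl⟩
    have h2 : v ∈ orb P v := self_mem_orb P v
    rw [ha, Finset.mem_singleton] at h1 h2
    rw [h1, h2]
  · have hB7 : B.card = 7 := by omega
    by_cases hs : ∑ x ∈ B, x = 0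
    · right
      have hNfix : ∀ x, σ x = x → N x = x := by
        intro x hx
        rw [hN]
        have hpow : ∀ i : ℕ, (σ ^ i) x = x := by
          intro i
          induction i with
          | zero => simp
          | succ k ih => rw [pow_succ, Perm.mul_apply, hx, ih]
        rw [Finset.sum_congr rfl (fun i _ => hpow i), Finset.sum_const, Finset.card_range]
        have h7x : (7 : ℕ) • x = (x + x) + (x + x) + (x + x) + x := by abel
        rw [h7x, hX2 x]
        simp
      have hrange : N.range = FA := by
        ext y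
        constructor
        · rintro ⟨x, rfl⟩
          exact (hFA _).2 (hσN x)
        · intro hy
          exact ⟨y, hNfix y ((hFA y).1 hy)⟩
      have hW2 : N.ker.index = 2 := by rw [AddSubgroup.index_ker, hrange, hFA2]
      refine ⟨N.ker, hW2, ?_⟩
      have hBker : ∀ b ∈ B, N b = 0 := by
        intro b hb
        rw [hN, ← hs]
        have hlt : ∀ i j : ℕ, i < j → j < 7 → (σ ^ i) b ≠ (σ ^ j) b := by
          intro i j hij hj heq
          obtain ⟨k, rfl⟩ := Nat.exists_eq_add_of_lt hij
          rw [show i + k + 1 = i + (k + 1) by ring, pow_add, Perm.mul_apply] at heq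
          have hk : (σ ^ (k + 1)) b = b := ((σ ^ i).injective heq).symm
          have hmem : σ ∈ MulAction.stabilizer (Perm X) b := by
            apply mem_of_zpow_mem _ σ 7 (by norm_num) hσpow ((k + 1 : ℕ) : ℤ)
            · intro hd
              have := Int.natCast_dvd_natCast.1 hd
              have := Nat.le_of_dvd (by omega) this
              omega
            · rw [zpow_natCast, MulAction.mem_stabilizer_iff, Perm.smul_def]
              exact hk
          rw [MulAction.mem_stabilizer_iff, Perm.smul_def] at hmem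
          exact hBmove b hb hmem
        have hinjOn : Set.InjOn (fun i : ℕ => (σ ^ i) b) (Finset.range 7 : Set ℕ) := by
          intro i hi j hj hij
          rw [Finset.coe_range, Set.mem_Iio] at hi hj
          rcases lt_trichotomy i j with h | h | h
          · exact absurd hij (hlt i j h hj)
          · exact h
          · exact absurd hij.symm (hlt j i h hi)
        have himg : (Finset.range 7).image (fun i : ℕ => (σ ^ i) b) = B := by
          apply Finset.eq_of_subset_of_card_le
          · intro x hx
            obtain ⟨i, -, rfl⟩ := Finset.mem_image.1 hx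
            exact hBinv _ (hpowP i) b hb
          · rw [Finset.card_image_of_injOn hinjOn, Finset.card_range, hB7]
        rw [← himg, Finset.sum_image hinjOn]
      have hW8 : Nat.card ↥N.ker = 8 := by
        have := AddSubgroup.card_mul_index N.ker
        rw [hW2, Nat.card_eq_fintype_card (α := X), hX] at this
        omega
      have hWeq : ∀ w, w ∈ N.ker → w = 0 ∨ w ∈ B := by
        have hsub : insert 0 B ⊆ Finset.univ.filter (fun x => x ∈ N.ker) := by
          intro x hx
          rw [Finset.mem_filter]
          refine ⟨Finset.mem_univ x, ?_⟩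
          rcases Finset.mem_insert.1 hx with rfl | hx
          · exact N.ker.zero_mem
          · exact AddMonoidHom.mem_ker.2 (hBker x hx)
        have hcardW : (Finset.univ.filter (fun x => x ∈ N.ker)).card = 8 := by
          rw [← hW8, Nat.card_eq_fintype_card, Fintype.card_subtype]
        have h0B : (0 : X) ∉ B := by
          rw [hBmem]
          exact fun h => h.1 rfl
        have heq := Finset.eq_of_subset_of_card_le hsub
          (by rw [hcardW, Finset.card_insert_of_notMem h0B, hB7])
        intro w hw
        have : w ∈ insert 0 B := by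
          rw [heq, Finset.mem_filter]
          exact ⟨Finset.mem_univ w, hw⟩
        exact Finset.mem_insert.1 this
      intro h hh w hw
      rcases hWeq w hw with rfl | hwB
      · rw [hzero h hh]
        exact N.ker.zero_mem
      · exact AddMonoidHom.mem_ker.2 (hBker _ (hBinv h hh w hwB))
    · left
      refine ⟨∑ x ∈ B, x, hs, ?_⟩
      intro h hh
      have := map_sum (A h hh) (fun x => x) B
      simp only [hA] at this
      rw [this]
      exact Finset.sum_equiv h (fun x => (hBinv.iff hh x).symm) (fun x _ => rfl)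

end dich

end Cfsg.Agent.Helper30.A8Sub
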