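/-
Helper30: subgroups of `A_8` with trivial solvable radical (towards S2553).
Part 12: a subgroup of `GL_4(2)` of order 1344 has a non-trivial solvable normal subgroup;
the subgroups of `GL_4(2)` with trivial solvable radical.
-/
import Cfsg.Agent.Helper30.A8Sub.Dich
import Cfsg.Agent.Helper30.A8Sub.Case5
import Cfsg.Agent.Helper96.KleinGroup

set_option autoImplicit false
set_option linter.unusedSectionVars false

namespace Cfsg.Agent.Helper30.A8Sub

open Equiv Equiv.Perm Matrix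

/-- a subgroup of `GL_4(2)` of order 1344 has a non-trivial solvable normal subgroup -/
theorem not_radTriv_of_card_1344 (H : Subgroup (GL (Fin 4) (ZMod 2)))
    (hcard : Nat.card ↥H = 1344) : ¬ RadTriv ↥H := by
  classical
  have hPcard : Nat.card ↥(H.map (colAct (n := Fin 4) (R := ZMod 2))) = 1344 := by
    rw [Subgroup.card_map_of_injective colAct_injective, hcard]
  have hX2 : ∀ x : Fin 4 → ZMod 2, x + x = 0 := by
    intro x
    funext i
    exact CharTwo.add_self_eq_zero (x i)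
  have hX : Fintype.card (Fin 4 → ZMod 2) = 16 := by
    rw [← Nat.card_eq_fintype_card, card_vec]
  have hadd : ∀ h ∈ H.map (colAct (n := Fin 4) (R := ZMod 2)), ∀ x y : Fin 4 → ZMod 2,
      h (x + y) = h x + h y := by
    intro h hh x y
    obtain ⟨g, -, rfl⟩ := Subgroup.mem_map.1 hh
    simp [mulVec_add]
  rcases fixed_or_invariant_aux hX2 hX _ hadd (by rw [hPcard]; norm_num)
    (by rw [hPcard]; norm_num) with ⟨v, hv, hfix⟩ | ⟨W, hW2, hinv⟩
  · exact not_radTriv_of_fixed H hcard v hv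
      (fun h hh => hfix (colAct h) (Subgroup.mem_map_of_mem _ hh))
  · exact not_radTriv_of_invariant H hcard W hW2
      (fun h hh w hw => hinv (colAct h) (Subgroup.mem_map_of_mem _ hh) w hw)

/-- the non-trivial subgroups of `GL_4(2)` with trivial solvable radical -/
theorem main_linear (H : Subgroup (GL (Fin 4) (ZMod 2))) (hne : H ≠ ⊥) (hrad : RadTriv ↥H) :
    (∃ n : ℕ, 5 ≤ n ∧ n ≤ 8 ∧ Nonempty (↥H ≃* alternatingGroup (Fin n))) ∨
      Nonempty (↥H ≃* Perm (Fin 5)) ∨ Nonempty (↥H ≃* Perm (Fin 6)) ∨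
      Nonempty (↥H ≃* GL (Fin 3) (ZMod 2)) := by
  have hθ := Cfsg.Agent.Helper96.Klein.toPerm_injective
  let e : ↥H ≃* ↥(H.map Cfsg.Agent.Helper96.Klein.toPerm) := H.equivMapOfInjective _ hθ
  have hle : H.map Cfsg.Agent.Helper96.Klein.toPerm ≤ alternatingGroup (Fin 8) := by
    rw [← Cfsg.Agent.Helper96.Klein.range_toPerm]
    exact Subgroup.map_le_range _ _
  have hne' : H.map Cfsg.Agent.Helper96.Klein.toPerm ≠ ⊥ := by
    rw [Ne, Subgroup.map_eq_bot_iff_of_injective _ hθ]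
    exact hne
  rcases main_perm _ hle hne' (hrad.of_equiv e) with ⟨n, h1, h2, h3⟩ | h | h | h | h
  · obtain ⟨e2⟩ := h3
    exact Or.inl ⟨n, h1, h2, ⟨e.trans e2⟩⟩
  · obtain ⟨e2⟩ := h
    exact Or.inr (Or.inl ⟨e.trans e2⟩)
  · obtain ⟨e2⟩ := h
    exact Or.inr (Or.inr (Or.inl ⟨e.trans e2⟩))
  · obtain ⟨e2⟩ := h
    exact Or.inr (Or.inr (Or.inr ⟨e.trans e2⟩))
  · exfalso
    apply not_radTriv_of_card_1344 H _ hrad
    rw [Nat.card_congr e.toEquiv, h]

end Cfsg.Agent.Helper30.A8Sub
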